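import Cfsg.Agent.Omega.NO3S.SN2.VPlus.Lett

/-!
# SN.Two / LightL, `V⁺ = even(2n) / 1` (helper895 #23142 (f8)): `N_L(Q)` and the parabolics permute the duads

* `Lt.inj`, `Lt.three` : the duads `Φ (pr a b)`;
* `Du` : `z_i` or an element of `E_ij - V`; `Lt.du_iff`;
* `Rp` : a parabolic `R` over `ij`; `Hvy` : the elements of `E_ij - V` are heavy, heavy vectors of `V` are the `z_j`;
* **`perm_N`, `perm_R`** : `g ∈ N`, `r ∈ R` permute the letters.
-/

set_option autoImplicit false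
set_option linter.unusedSectionVars false

namespace Cfsg.Agent.Omega.NO3S.SN2.VPlus

open Subgroup Cfsg.Agent.Omega.S5.Def Cfsg.Agent.Omega.NSix.Base Cfsg.Agent.Omega.NSix.Basic

universe u

variable {G : Type u} [Group G] {n : ℕ}

/-- `g` centralises `V_ij` -/
def Cx (ε : (Fin n → ZMod 2) → G) (i j : Fin n) (g : G) : Prop :=
  ∀ x : Fin n → ZMod 2, x i = x j → g * ε x = ε x * g

/-- `z_i` or an element of `E_ij - V` -/
def Du (V : Subgroup G) (ε : (Fin n → ZMod 2) → G) (E : Fin n → Fin n → Subgroup G) (g : G) : Prop :=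
  (∃ i, g = zz ε i) ∨ ∃ i j, i ≠ j ∧ g ∈ E i j ∧ g ∉ V

/-- `g` acts on the duads as the permutation `σ` of the letters -/
def ActD (Φ : (Fin n × Bool → ZMod 2) → G) (g : G) (σ : Equiv.Perm (Fin n × Bool)) : Prop :=
  ∀ a b, g * Φ (pr a b) * g⁻¹ = Φ (pr (σ a) (σ b))

/-- a parabolic over `ij` -/
structure Rp (V N : Subgroup G) (ε : (Fin n → ZMod 2) → G) (E : Fin n → Fin n → Subgroup G) (i j : Fin n)
    (R : Subgroup G) : Prop where
  ne : i ≠ j
  cx : ∀ r ∈ R, Cx ε i j r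
  RE : ∀ r ∈ R, ∀ w ∈ E i j, r * w * r⁻¹ ∈ E i j
  K : ∃ K : Subgroup G, K ≤ N ∧ K ≤ R ∧ (∀ r ∈ R, ∀ k ∈ K, r * k * r⁻¹ ∈ K) ∧
    ∀ e ∈ E i j, (∀ k ∈ K, k * e = e * k) → e = 1 ∨ e = rr ε i j
  f5 : ∀ k, k ≠ i → k ≠ j → ∀ r ∈ R, ∀ u ∈ E i k, u ∉ V → ∃ e ∈ E i j, ∃ c, InZ ε {k} c ∧ r * u * r⁻¹ = u * e * c
  f5' : ∀ k, k ≠ i → k ≠ j → ∀ r ∈ R, ∀ u ∈ E j k, u ∉ V → ∃ e ∈ E i j, ∃ c, InZ ε {k} c ∧ r * u * r⁻¹ = u * e * c
  mv : ∃ r ∈ R, r * zz ε i * r⁻¹ ∉ V

/-- heavy vectors -/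
structure Hvy (V : Subgroup G) (ε : (Fin n → ZMod 2) → G) (E : Fin n → Fin n → Subgroup G) : Prop where
  hv : ∀ i j, i ≠ j → ∀ u ∈ E i j, u ∉ V → ∃ x, Cx ε i j x ∧ x * zz ε i * x⁻¹ = u
  fus : ∀ g : G, ∀ i, g * zz ε i * g⁻¹ ∈ V → ∃ j, g * zz ε i * g⁻¹ = zz ε j

theorem pr_self {Λ : Type*} [DecidableEq Λ] (a : Λ) : pr a a = 0 := by
  funext c
  rw [pr_apply]
  exact two_add _

theorem pr_add {Λ : Type*} [DecidableEq Λ] (a b c : Λ) : pr a b + pr b c = pr a c := by
  funext d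
  rw [Pi.add_apply, pr_apply, pr_apply, pr_apply]
  have := two_add (if d = b then (1 : ZMod 2) else 0)
  calc _ = ((if d = a then (1 : ZMod 2) else 0) + (if d = c then (1 : ZMod 2) else 0)) +
      ((if d = b then (1 : ZMod 2) else 0) + (if d = b then (1 : ZMod 2) else 0)) := by ring
    _ = _ := by rw [this, add_zero]

theorem card_lett : Nat.card (Fin n × Bool) = 2 * n := by
  rw [Nat.card_eq_fintype_card, Fintype.card_prod, Fintype.card_fin, Fintype.card_bool, mul_comm]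

theorem exists_out (hn : 5 ≤ n) (S : Finset (Fin n × Bool)) (hS : S.card ≤ 9) : ∃ a, a ∉ S := by
  by_contra hcon
  push Not at hcon
  have h1 : (Finset.univ : Finset (Fin n × Bool)) ⊆ S := fun k _ => hcon k
  have h2 := Finset.card_le_card h1
  rw [Finset.card_univ, Fintype.card_prod, Fintype.card_fin, Fintype.card_bool] at h2
  omega

/-- the pairs -/
theorem pr_eq {Λ : Type*} [DecidableEq Λ] {a b c d : Λ} (hab : a ≠ b) (he : pr a b = pr c d) :
    (a = c ∧ b = d) ∨ (a = d ∧ b = c) := by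
  have h1 := congrFun he a
  have h2 := congrFun he b
  rw [pr_apply, pr_apply] at h1 h2
  simp only [if_true, hab, if_false, hab.symm, add_zero, zero_add] at h1 h2
  by_cases h3 : a = c
  · subst h3
    left
    refine ⟨rfl, ?_⟩
    by_contra h4
    simp [hab.symm, h4] at h2
  · by_cases h4 : a = d
    · subst h4
      right
      refine ⟨rfl, ?_⟩
      by_contra h5
      simp [hab.symm, h5] at h2
    · simp [h3, h4] at h1

section Lt

variable {V Q N : Subgroup G} {ε : (Fin n → ZMod 2) → G} {E : Fin n → Fin n → Subgroup G} (h : Dt V Q N ε E)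
  {Φ : (Fin n × Bool → ZMod 2) → G} (l : Lt V Q ε E Φ)
include h l

theorem Lt.Φ0 : Φ 0 = 1 := by
  have := l.add 0 0
  rw [add_zero] at this
  exact (left_eq_mul.1 this)

theorem Lt.sq (x : Fin n × Bool → ZMod 2) : Φ x * Φ x = 1 := by
  rw [← l.add]
  have : x + x = 0 := funext fun a => two_add _
  rw [this, l.Φ0 h]

theorem Lt.dd_mul (a b c : Fin n × Bool) : Φ (pr a b) * Φ (pr b c) = Φ (pr a c) := by
  rw [← l.add, pr_add]

/-- even sums with small support are determined -/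
theorem Lt.small {x y : Fin n × Bool → ZMod 2} (hx : ∑ a, x a = 0) (hy : ∑ a, y a = 0) (he : Φ x = Φ y)
    (S : Finset (Fin n × Bool)) (hS : S.card ≤ 9) (hxS : ∀ a, a ∉ S → x a = 0) (hyS : ∀ a, a ∉ S → y a = 0) :
    x = y := by
  have h1 : ∑ a, (x + y) a = 0 := by
    simp only [Pi.add_apply]
    rw [Finset.sum_add_distrib, hx, hy, add_zero]
  have h2 : Φ (x + y) = 1 := by rw [l.add, he, l.sq h]
  rcases l.ker _ h1 h2 with h3 | h3
  · funext a
    have h4 := congrFun h3 a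
    rw [Pi.add_apply, Pi.zero_apply] at h4
    exact eq_of_sub_eq_zero (by rw [CharTwo.sub_eq_add]; exact h4)
  · exfalso
    obtain ⟨a, ha⟩ := exists_out h.five S hS
    have h4 := congrFun h3 a
    rw [Pi.add_apply, hxS a ha, hyS a ha, add_zero, Pi.one_apply] at h4
    exact zero_ne_one h4

theorem Lt.inj {a b c d : Fin n × Bool} (hab : a ≠ b) (he : Φ (pr a b) = Φ (pr c d)) :
    (a = c ∧ b = d) ∨ (a = d ∧ b = c) := by
  classical
  refine pr_eq hab (l.small h (sum_pr _ _) (sum_pr _ _) he {a, b, c, d} ?_ ?_ ?_)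
  · exact Finset.card_le_four.trans (by norm_num)
  · intro k hk
    simp only [Finset.mem_insert, Finset.mem_singleton, not_or] at hk
    rw [pr_apply, if_neg hk.1, if_neg hk.2.1, add_zero]
  · intro k hk
    simp only [Finset.mem_insert, Finset.mem_singleton, not_or] at hk
    rw [pr_apply, if_neg hk.2.2.1, if_neg hk.2.2.2, add_zero]

theorem Lt.three {a b c d p q : Fin n × Bool} (hab : a ≠ b) (hac : a ≠ c) (had : a ≠ d) (hbc : b ≠ c)
    (hbd : b ≠ d) (hcd : c ≠ d) : Φ (pr a b) * Φ (pr c d) ≠ Φ (pr p q) := by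
  classical
  intro he
  rw [← l.add] at he
  have h1 : pr a b + pr c d = pr p q := by
    refine l.small h ?_ (sum_pr _ _) he {a, b, c, d, p, q} ?_ ?_ ?_
    · simp only [Pi.add_apply]
      rw [Finset.sum_add_distrib, sum_pr, sum_pr, add_zero]
    · exact Finset.card_le_six.trans (by norm_num)
    · intro k hk
      simp only [Finset.mem_insert, Finset.mem_singleton, not_or] at hk
      rw [Pi.add_apply, pr_apply, pr_apply, if_neg hk.1, if_neg hk.2.1, if_neg hk.2.2.1, if_neg hk.2.2.2.1,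
        add_zero, add_zero]
    · intro k hk
      simp only [Finset.mem_insert, Finset.mem_singleton, not_or] at hk
      rw [pr_apply, if_neg hk.2.2.2.2.1, if_neg hk.2.2.2.2.2, add_zero]
  have key : ∀ k, (k = a ∨ k = b ∨ k = c ∨ k = d) → k = p ∨ k = q := by
    intro k hk
    by_contra hcon
    push Not at hcon
    have h2 := congrFun h1 k
    rw [Pi.add_apply, pr_apply, pr_apply, pr_apply, if_neg hcon.1, if_neg hcon.2, add_zero] at h2
    rcases hk with rfl | rfl | rfl | rfl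
    · simp [hab, hac, had] at h2
    · simp [hab.symm, hbc, hbd] at h2
    · simp [hac.symm, hbc.symm, hcd] at h2
    · simp [had.symm, hbd.symm, hcd.symm] at h2
  have ka := key a (Or.inl rfl)
  have kb := key b (Or.inr (Or.inl rfl))
  have kc := key c (Or.inr (Or.inr (Or.inl rfl)))
  rcases ka with rfl | rfl
  · rcases kb with rfl | rfl
    · exact hab rfl
    · rcases kc with rfl | rfl
      · exact hac rfl
      · exact hbc rfl
  · rcases kb with rfl | rfl
    · rcases kc with rfl | rfl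
      · exact hbc rfl
      · exact hac rfl
    · exact hab rfl

omit h in
theorem Lt.dd_blk (i : Fin n) {a b : Bool} (hab : a ≠ b) : Φ (pr (i, a) (i, b)) = zz ε i := by
  have h1 : pr (i, a) (i, b) = fun c : Fin n × Bool => (Pi.single i 1 : Fin n → ZMod 2) c.1 := by
    funext c
    rw [pr_apply]
    obtain ⟨k, s⟩ := c
    by_cases hk : k = i
    · subst hk
      cases a <;> cases b <;> cases s <;> simp_all
    · simp [hk]
  rw [h1, l.blk]
  rfl

omit h in
theorem Lt.du_iff {g : G} : Du V ε E g ↔ ∃ a b, a ≠ b ∧ g = Φ (pr a b) := by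
  constructor
  · rintro (⟨i, rfl⟩ | ⟨i, j, hij, hg, hgV⟩)
    · exact ⟨(i, false), (i, true), by simp, (l.dd_blk i (by simp)).symm⟩
    · obtain ⟨a, b, rfl⟩ := l.pr_surj i j hij g hg hgV
      exact ⟨(i, a), (j, b), fun e => hij (congrArg Prod.fst e), rfl⟩
  · rintro ⟨⟨i, a⟩, ⟨j, b⟩, hab, rfl⟩
    by_cases hij : i = j
    · subst hij
      left
      exact ⟨i, l.dd_blk i fun e => hab (by rw [e])⟩
    · right
      exact ⟨i, j, hij, l.pr_mem i j hij a b⟩

/-- an element which maps duads to duads permutes the letters -/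
theorem Lt.perm {g : G} (hz : ∀ i, Du V ε E (g * zz ε i * g⁻¹))
    (hE : ∀ i j, i ≠ j → ∀ u ∈ E i j, u ∉ V → Du V ε E (g * u * g⁻¹)) : ∃ σ, ActD Φ g σ := by
  refine exists_perm_of_duads (fun a b => Φ (pr a b)) (by rw [card_lett]; have := h.five; omega)
    (fun a => by
      change Φ (pr a a) = 1
      rw [pr_self, l.Φ0 h])
    (fun a b c => l.dd_mul h a b c) (fun a b => by
      change Φ (pr a b) = Φ (pr b a)
      rw [pr_comm])
    (fun a b c d hab he => l.inj h hab he)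
    (fun a b c d p q h1 h2 h3 h4 h5 h6 _ => l.three h h1 h2 h3 h4 h5 h6)
    (MulAut.conj g).toMonoidHom (MulAut.conj g).injective ?_
  intro a b hab
  have h1 : Du V ε E (Φ (pr a b)) := l.du_iff.2 ⟨a, b, hab, rfl⟩
  have h2 : Du V ε E (g * Φ (pr a b) * g⁻¹) := by
    rcases h1 with ⟨i, hi⟩ | ⟨i, j, hij, hg, hgV⟩
    · rw [hi]
      exact hz i
    · exact hE i j hij _ hg hgV
  obtain ⟨c, d, hcd, he⟩ := l.du_iff.1 h2
  exact ⟨c, d, hcd, he⟩

end Lt

section act

variable {V Q N : Subgroup G} {ε : (Fin n → ZMod 2) → G} {E : Fin n → Fin n → Subgroup G} (h : Dt V Q N ε E)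
include h

theorem Dt.Vm {v : G} (hv : v ∈ V) {g : G} (hg : g ∈ N) : g * v * g⁻¹ ∈ V :=
  (mem_normalizer_iff.1 (h.ev.le_normalizer hg) v).1 hv

/-- `N` permutes the duads -/
theorem perm_N {Φ : (Fin n × Bool → ZMod 2) → G} (l : Lt V Q ε E Φ) {g : G} (hg : g ∈ N) : ∃ σ, ActD Φ g σ := by
  obtain ⟨τ, hτ⟩ := h.ev.perm g hg
  refine l.perm h (fun i => Or.inl ⟨τ i, zz_conj hτ i⟩) fun i j hij u hu huV => ?_
  refine Or.inr ⟨τ i, τ j, fun e => hij (τ.injective e), h.cj i j hij g hg τ hτ u hu, fun hc => huV ?_⟩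
  have := h.Vm hc (N.inv_mem hg)
  have e : g⁻¹ * (g * u * g⁻¹) * g⁻¹⁻¹ = u := by group
  rwa [e] at this

omit h in
theorem Cx.zz {i j m : Fin n} {g : G} (hg : Cx ε i j g) (hi : m ≠ i) (hj : m ≠ j) :
    g * NSix.Base.zz ε m * g⁻¹ = NSix.Base.zz ε m := by
  rw [NSix.Base.zz, hg _ (by simp [hi.symm, hj.symm])]
  group

omit h in
theorem Cx.inz {i j : Fin n} {S : Set (Fin n)} {g v : G} (hg : Cx ε i j g) (hi : i ∉ S) (hj : j ∉ S)
    (hv : InZ ε S v) : g * v * g⁻¹ = v := by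
  obtain ⟨x, hx, rfl⟩ := hv
  rw [hg x (by rw [hx i hi, hx j hj])]
  group

variable (hh : Hvy V ε E)
include hh

/-- `u z_m` is light (`u ∈ E_ij - V`, `m ≠ i, j`) -/
theorem light2 {i j m : Fin n} (hij : i ≠ j) (hmi : m ≠ i) (hmj : m ≠ j) {u : G} (hu : u ∈ E i j) (huV : u ∉ V)
    (g : G) (k : Fin n) : g * zz ε k * g⁻¹ ≠ u * zz ε m := by
  intro he
  obtain ⟨x, hx, hxu⟩ := hh.hv i j hij u hu huV
  have h1 : (x⁻¹ * g) * zz ε k * (x⁻¹ * g)⁻¹ = rr ε i m := by
    have h2 := hx.zz hmi hmj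
    calc (x⁻¹ * g) * zz ε k * (x⁻¹ * g)⁻¹ = x⁻¹ * (g * zz ε k * g⁻¹) * x := by group
      _ = x⁻¹ * (u * (x * zz ε m * x⁻¹)) * x := by rw [he, h2]
      _ = zz ε i * zz ε m := by rw [← hxu]; group
  obtain ⟨l, hl⟩ := hh.fus (x⁻¹ * g) k (by rw [h1]; exact rr_mem h.ev _ _)
  rw [h1] at hl
  obtain ⟨p, hp1, hp2, hp3, -⟩ := exists_ne h.five i m l l
  unfold rr zz at hl
  rw [← h.ev.add] at hl
  rcases h.ev.eq_iff.1 hl with h3 | h3
  · have a1 := congrFun h3 i
    have a2 := congrFun h3 m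
    by_cases hli : l = i
    · subst hli
      simp [hmi] at a2
    · simp [hmi.symm, Ne.symm hli] at a1
  · have a1 := congrFun h3 p
    simp [hp1, hp2, hp3] at a1

/-- `u x_ij` is not heavy (`u ∈ E_cd - V`, `{c, d} ∩ {i, j} = ∅`) -/
theorem light3 {i j c d : Fin n} (hij : i ≠ j) (hcd : c ≠ d) (hci : c ≠ i) (hcj : c ≠ j) (hdi : d ≠ i) (hdj : d ≠ j)
    {u : G} (hu : u ∈ E c d) (huV : u ∉ V) (g : G) (k : Fin n) : g * zz ε k * g⁻¹ ≠ u * rr ε i j := by
  intro he
  obtain ⟨x, hx, hxu⟩ := hh.hv c d hcd u hu huV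
  have h1 : (x⁻¹ * g) * zz ε k * (x⁻¹ * g)⁻¹ = zz ε c * rr ε i j := by
    have h2 : x * rr ε i j * x⁻¹ = rr ε i j := by
      refine hx.inz (S := {i, j}) (by simp [hci, hcj]) (by simp [hdi, hdj]) ?_
      exact InZ.mul h.ev (InZ.zz (by simp)) (InZ.zz (by simp))
    calc (x⁻¹ * g) * zz ε k * (x⁻¹ * g)⁻¹ = x⁻¹ * (g * zz ε k * g⁻¹) * x := by group
      _ = x⁻¹ * (u * (x * rr ε i j * x⁻¹)) * x := by rw [he, h2]
      _ = _ := by rw [← hxu]; group
  obtain ⟨l, hl⟩ := hh.fus (x⁻¹ * g) k (by rw [h1]; exact V.mul_mem (zz_mem h.ev _) (rr_mem h.ev _ _))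
  rw [h1] at hl
  obtain ⟨p, hp1, hp2, hp3, hp4⟩ := exists_ne h.five i j c l
  unfold rr zz at hl
  rw [← h.ev.add, ← h.ev.add] at hl
  rcases h.ev.eq_iff.1 hl with h3 | h3
  · have a1 := congrFun h3 i
    have a2 := congrFun h3 j
    by_cases hli : l = i
    · subst hli
      simp [hij.symm, hcj.symm] at a2
    · simp [hij, hci.symm, Ne.symm hli] at a1
  · have a1 := congrFun h3 p
    simp [hp1, hp2, hp3, hp4] at a1

theorem mul_V {u v : G} (huV : u ∉ V) (hv : v ∈ V) : u * v ∉ V := fun hc => huV (by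
  have := V.mul_mem hc (V.inv_mem hv)
  rwa [mul_inv_cancel_right] at this)

/-- (f8) (i) -/
theorem mixed {i j k : Fin n} (hij : i ≠ j) (hki : k ≠ i) (hkj : k ≠ j) {r u : G} (hu : u ∈ E i k) (huV : u ∉ V)
    (he : ∃ e ∈ E i j, ∃ c, InZ ε {k} c ∧ r * u * r⁻¹ = u * e * c) :
    (r * u * r⁻¹ ∈ E i k ∨ r * u * r⁻¹ ∈ E j k) ∧ r * u * r⁻¹ ∉ V := by
  obtain ⟨e, he, c, hc, hre⟩ := he
  obtain ⟨x, hx, hxu⟩ := hh.hv i k hki.symm u hu huV
  have hcV := hc.mem h.ev
  have heavy : ∀ w m, w ∈ E m k → w ∉ V → (m = i ∨ m = j) → ∀ s, (s = i ∨ s = j) → s ≠ m →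
      r * u * r⁻¹ = w * zz ε s → False := by
    intro w m hw hwV hm s hs hsm hrw
    have hmk : m ≠ k := by rcases hm with rfl | rfl <;> [exact hki.symm; exact hkj.symm]
    have hsk : s ≠ k := by rcases hs with rfl | rfl <;> [exact hki.symm; exact hkj.symm]
    refine light2 h hh hmk hsm hsk hw hwV (r * x) i ?_
    rw [← hrw, ← hxu]
    group
  by_cases heV : e ∈ V
  · have h1 : InZ ε (insert j {i}) e := by
      have := h.EV i j hij e he heV
      rwa [Set.pair_comm] at this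
    rcases h1.split h.ev with h2 | h2
    · refine ⟨Or.inl ?_, ?_⟩
      · rw [hre]
        exact mul_mem (mul_mem hu (h.ZE i k hki.symm _ (h2.mono (by simp)))) (h.ZE i k hki.symm _ (hc.mono (by simp)))
      · rw [hre, mul_assoc]
        exact mul_V h hh huV (V.mul_mem heV hcV)
    · exfalso
      have hw1 : zz ε j * e * c ∈ V := V.mul_mem (h2.mem h.ev) hcV
      refine heavy (u * (zz ε j * e * c)) i ?_ (mul_V h hh huV hw1) (Or.inl rfl) j (Or.inr rfl) hij.symm ?_
      · exact mul_mem hu (mul_mem (h.ZE i k hki.symm _ (h2.mono (by simp))) (h.ZE i k hki.symm _ (hc.mono (by simp))))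
      · have h3 : zz ε j * (e * c) = (e * c) * zz ε j := h.ev.comm_mem (zz_mem h.ev _) (V.mul_mem heV hcV)
        calc r * u * r⁻¹ = u * (e * c) := by rw [hre]; group
          _ = u * ((e * c) * zz ε j) * (zz ε j)⁻¹ := by group
          _ = u * (zz ε j * (e * c)) * zz ε j := by rw [← h3, zz_inv h.ev]
          _ = _ := by group
  · obtain ⟨s, hs, hsV⟩ := h.ne j k hkj.symm
    have h1 := h.dep i j k hij hki.symm hkj.symm e he u hu s hs heV huV hsV
    have hue : u * e = e * u := h.comm i k hki.symm i j hij u hu e he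
    have hc' : c ∈ E j k := h.ZE j k hkj.symm _ (hc.mono (by simp))
    rcases h1.split h.ev with h2 | h2
    · have h3 : u * e * c = (e * u * s) * s⁻¹ * c := by rw [hue]; group
      have h4 : r * u * r⁻¹ ∈ E j k := by
        rw [hre, h3]
        exact mul_mem (mul_mem (h.ZE j k hkj.symm _ h2) (inv_mem hs)) hc'
      refine ⟨Or.inr h4, ?_⟩
      rw [hre]
      exact mul_V h hh (h.mul_notMem hki.symm hij hkj hu he huV) hcV
    · exfalso
      have h3 : u * e * c = (zz ε i * (e * u * s)) * s⁻¹ * c * zz ε i := by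
        have a1 : s⁻¹ * c * zz ε i ∈ VE E := mul_mem (mul_mem (inv_mem (Dt.mem_VE hkj.symm hs))
          (Dt.mem_VE hkj.symm hc')) (h.V_le (zz_mem h.ev i))
        have a2 := h.VEc _ (h.V_le (zz_mem h.ev i)) _ (mul_mem (Dt.mem_VE hij he) (mul_mem
          (Dt.mem_VE hki.symm hu) (h.V_le hcV)))
        calc u * e * c = (zz ε i * zz ε i) * (e * (u * c)) := by rw [zz_sq h.ev, one_mul, hue]; group
          _ = zz ε i * (zz ε i * (e * (u * c))) := by group
          _ = zz ε i * ((e * (u * c)) * zz ε i) := by rw [a2]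
          _ = _ := by group
      have h4 : (zz ε i * (e * u * s)) * s⁻¹ * c ∉ V := by
        intro hc2
        have h5 := V.mul_mem hc2 (zz_mem h.ev i)
        rw [← h3] at h5
        exact mul_V h hh (h.mul_notMem hki.symm hij hkj hu he huV) hcV h5
      refine heavy _ j ?_ h4 (Or.inr rfl) i (Or.inl rfl) hij ?_
      · exact mul_mem (mul_mem (h.ZE j k hkj.symm _ h2) (inv_mem hs)) hc'
      · rw [hre, h3]

end act

end Cfsg.Agent.Omega.NO3S.SN2.VPlus
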