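import Cfsg.Agent.Omega.NO3S.SN2.VPlus.Act

/-!
# SN.Two / LightL, `V⁺ = even(2n) / 1` (helper895 #23142 (f8)): the parabolics permute the duads

* `disj` : (f8) (ii), `R` over `ij` normalises `E_cd` for `{c, d}` disjoint from `{i, j}`;
* **`perm_R`**; `Rp.swap`.
-/

set_option autoImplicit false
set_option linter.unusedSectionVars false

namespace Cfsg.Agent.Omega.NO3S.SN2.VPlus

open Subgroup Cfsg.Agent.Omega.S5.Def Cfsg.Agent.Omega.NSix.Base Cfsg.Agent.Omega.NSix.Basic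

universe u

variable {G : Type u} [Group G] {n : ℕ} {V Q N : Subgroup G} {ε : (Fin n → ZMod 2) → G}
  {E : Fin n → Fin n → Subgroup G} (h : Dt V Q N ε E)

include h in
/-- (f8) (ii), first half -/
theorem disjA {i j c d : Fin n} {R : Subgroup G} (hR : Rp V N ε E i j R) (hcd : c ≠ d) (hci : c ≠ i) (hcj : c ≠ j)
    (hdi : d ≠ i) (hdj : d ≠ j) {r : G} (hr : r ∈ R) {y : G} (hy : y ∈ E c d) (hyV : y ∉ V) :
    ∃ e ∈ E i j, ∃ f, InZ ε {c, d} f ∧ r * y * r⁻¹ = y * e * f := by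
  have hij := hR.ne
  obtain ⟨w, hw, hwV⟩ := h.ne i c hci.symm
  obtain ⟨w', hw', hwV'⟩ := h.ne i d hdi.symm
  obtain ⟨e1, he1, c1, hc1, a1⟩ := hR.f5 c hci hcj r hr w hw hwV
  obtain ⟨e2, he2, c2, hc2, a2⟩ := hR.f5 d hdi hdj r hr w' hw' hwV'
  have h1 := h.dep i c d hci.symm hdi.symm hcd w hw w' hw' y hy hwV hwV' hyV
  -- the membership in `V⁺`
  have mw := Dt.mem_VE hci.symm hw
  have mw' := Dt.mem_VE hdi.symm hw'
  have my := Dt.mem_VE hcd hy
  have me1 := Dt.mem_VE hij he1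
  have me2 := Dt.mem_VE hij he2
  have mc1 := h.V_le (hc1.mem h.ev)
  have mc2 := h.V_le (hc2.mem h.ev)
  -- `ζ := w w' y`, `r ζ r⁻¹ = ζ e3`
  obtain ⟨e3, he3, a3⟩ : ∃ e3 ∈ E i j, r * (w * w' * y) * r⁻¹ = (w * w' * y) * e3 := by
    rcases h1.split h.ev with h2 | h2
    · refine ⟨1, one_mem _, ?_⟩
      rw [mul_one]
      exact (hR.cx r hr).inz (by simp [hci.symm, hdi.symm]) (by simp [hcj.symm, hdj.symm]) h2
    · have h3 := (hR.cx r hr).inz (S := {c, d}) (by simp [hci.symm, hdi.symm]) (by simp [hcj.symm, hdj.symm]) h2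
      have hzi := (h.zzE hij).1
      have h4 := hR.RE r hr _ hzi
      refine ⟨zz ε i * (r * zz ε i * r⁻¹), mul_mem hzi h4, ?_⟩
      have m1 : w * w' * y ∈ VE E := mul_mem (mul_mem mw mw') my
      have m2 := Dt.mem_VE hij h4
      have a4 : (r * zz ε i * r⁻¹) * (zz ε i * (w * w' * y)) = (zz ε i * (w * w' * y)) * (r * zz ε i * r⁻¹) :=
        h.VEc _ m2 _ (mul_mem (Dt.mem_VE hij hzi) m1)
      have a5 := h.VEc _ (Dt.mem_VE hij hzi) _ m1
      calc r * (w * w' * y) * r⁻¹ = r * ((zz ε i * zz ε i) * (w * w' * y)) * r⁻¹ := by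
            rw [zz_sq h.ev, one_mul]
        _ = (r * zz ε i * r⁻¹) * (r * (zz ε i * (w * w' * y)) * r⁻¹) := by group
        _ = (zz ε i * (w * w' * y)) * (r * zz ε i * r⁻¹) := by rw [h3, a4]
        _ = (w * w' * y) * zz ε i * (r * zz ε i * r⁻¹) := by rw [a5]
        _ = _ := by group
  refine ⟨e1 * e2 * e3, mul_mem (mul_mem he1 he2) he3, c1 * c2,
    InZ.mul h.ev (hc1.mono (by simp)) (hc2.mono (by simp)), ?_⟩
  -- compute in the abelian group `V⁺`
  have b1 : r * y * r⁻¹ = (r * w' * r⁻¹)⁻¹ * (r * w * r⁻¹)⁻¹ * (r * (w * w' * y) * r⁻¹) := by group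
  have hsq : ∀ x ∈ VE E, x * x = 1 := by
    intro x hx
    refine Subgroup.closure_induction (p := fun x _ => x * x = 1) ?_ ?_ ?_ ?_ hx
    · rintro x ⟨i, j, hij, hx⟩
      exact h.sq i j hij x hx
    · exact one_mul 1
    · intro x y hx hy h1 h2
      have h3 := h.VEc y hy x hx
      calc x * y * (x * y) = x * (y * x) * y := by group
        _ = (x * x) * (y * y) := by rw [h3]; group
        _ = 1 := by rw [h1, h2, one_mul]
    · intro x hx h1
      rw [← mul_inv_rev, h1, inv_one]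
  have hinv : ∀ x ∈ VE E, x⁻¹ = x := fun x hx => inv_eq_of_mul_eq_one_left (hsq x hx)
  have m1 : w * e1 * c1 ∈ VE E := mul_mem (mul_mem mw me1) mc1
  have m2 : w' * e2 * c2 ∈ VE E := mul_mem (mul_mem mw' me2) mc2
  have m3 := Dt.mem_VE hij he3
  rw [b1, a1, a2, a3, hinv _ m1, hinv _ m2]
  have cc := h.VEc
  calc w' * e2 * c2 * (w * e1 * c1) * (w * w' * y * e3) =
      (w * w') * (w' * e2 * c2 * (w * e1 * c1)) * (y * e3) := by
        have := cc _ (mul_mem m2 m1) _ (mul_mem mw mw')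
        calc _ = (w' * e2 * c2 * (w * e1 * c1)) * (w * w') * (y * e3) := by group
          _ = _ := by rw [this]
    _ = w * w' * (w' * (e2 * c2 * (w * e1 * c1))) * (y * e3) := by group
    _ = w * (w' * w') * ((e2 * c2) * (w * (e1 * c1))) * (y * e3) := by group
    _ = w * ((e2 * c2) * w) * (e1 * c1) * (y * e3) := by rw [hsq _ mw']; group
    _ = w * (w * (e2 * c2)) * (e1 * c1) * (y * e3) := by rw [cc _ (mul_mem me2 mc2) _ mw]
    _ = (w * w) * ((e2 * c2) * (e1 * c1)) * y * e3 := by group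
    _ = ((e2 * c2) * (e1 * c1)) * y * e3 := by rw [hsq _ mw, one_mul]
    _ = y * ((e2 * c2) * (e1 * c1)) * e3 := by
        rw [cc _ (mul_mem (mul_mem me2 mc2) (mul_mem me1 mc1)) _ my]
    _ = y * (e2 * (c2 * e1) * c1 * e3) := by group
    _ = y * (e2 * (e1 * c2) * c1 * e3) := by rw [cc _ mc2 _ me1]
    _ = y * ((e2 * e1) * ((c2 * c1) * e3)) := by group
    _ = y * ((e1 * e2) * (e3 * (c1 * c2))) := by
        rw [cc _ me2 _ me1, cc _ (mul_mem mc2 mc1) _ m3, cc _ mc2 _ mc1]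
    _ = _ := by group

section heavy

variable (hh : Hvy V ε E)
include h hh

/-- **(f8) (ii)** -/
theorem disj {i j c d : Fin n} {R : Subgroup G} (hR : Rp V N ε E i j R) (hcd : c ≠ d) (hci : c ≠ i) (hcj : c ≠ j)
    (hdi : d ≠ i) (hdj : d ≠ j) {r : G} (hr : r ∈ R) {y : G} (hy : y ∈ E c d) (hyV : y ∉ V) :
    r * y * r⁻¹ ∈ E c d ∧ r * y * r⁻¹ ∉ V := by
  have hij := hR.ne
  obtain ⟨e, he, f, hf, hre⟩ := disjA h hR hcd hci hcj hdi hdj hr hy hyV
  have my := Dt.mem_VE hcd hy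
  have me := Dt.mem_VE hij he
  have mf := h.V_le (hf.mem h.ev)
  have cc := h.VEc
  obtain ⟨K, hKN, hKR, hKn, hKc⟩ := hR.K
  -- `K` fixes `y ⟨z_c, z_d⟩`
  have k1 : ∀ k ∈ K, ∃ g, InZ ε {c, d} g ∧ k * y * k⁻¹ = y * g := by
    intro k hk
    obtain ⟨σ, hσ⟩ := h.ev.perm k (hKN hk)
    have hfx : ∀ m, m ≠ i → m ≠ j → σ m = m := fun m hmi hmj =>
      (h.ev.fixes_iff h.n3 hσ m).1 (hR.cx k (hKR hk) _ (by simp [hmi.symm, hmj.symm]))
    have h1 := h.cj c d hcd k (hKN hk) σ hσ y hy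
    rw [hfx c hci hcj, hfx d hdi hdj] at h1
    have h1V : k * y * k⁻¹ ∉ V := fun hc => hyV (by
      have := h.Vm hc (N.inv_mem (hKN hk))
      have e : k⁻¹ * (k * y * k⁻¹) * k⁻¹⁻¹ = y := by group
      rwa [e] at this)
    refine ⟨y * (k * y * k⁻¹), h.EV c d hcd _ (mul_mem hy h1) (h.idx c d hcd _ hy _ h1 hyV h1V), ?_⟩
    have h2 := h.sq c d hcd y hy
    calc k * y * k⁻¹ = (y * y) * (k * y * k⁻¹) := by rw [h2, one_mul]
      _ = _ := by group
  -- `e` is centralised by `K`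
  have k2 : ∀ k ∈ K, k * e = e * k := by
    intro k hk
    have hk' : r⁻¹ * k * r ∈ K := by
      have := hKn r⁻¹ (R.inv_mem hr) k hk
      rwa [inv_inv] at this
    obtain ⟨g1, hg1, b1⟩ := k1 k hk
    obtain ⟨g2, hg2, b2⟩ := k1 _ hk'
    have hke : k * e * k⁻¹ ∈ E i j := hR.RE k (hKR hk) e he
    have hkf : k * f * k⁻¹ = f :=
      (hR.cx k (hKR hk)).inz (by simp [hci.symm, hdi.symm]) (by simp [hcj.symm, hdj.symm]) hf
    have hrg : r * g2 * r⁻¹ = g2 :=
      (hR.cx r hr).inz (by simp [hci.symm, hdi.symm]) (by simp [hcj.symm, hdj.symm]) hg2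
    have mg1 := h.V_le (hg1.mem h.ev)
    have mg2 := h.V_le (hg2.mem h.ev)
    have mke := Dt.mem_VE hij hke
    have e1 : k * (r * y * r⁻¹) * k⁻¹ = y * e * f * g2 := by
      calc k * (r * y * r⁻¹) * k⁻¹ = r * ((r⁻¹ * k * r) * y * (r⁻¹ * k * r)⁻¹) * r⁻¹ := by group
        _ = (r * y * r⁻¹) * (r * g2 * r⁻¹) := by rw [b2]; group
        _ = _ := by rw [hre, hrg]
    have e2 : k * (r * y * r⁻¹) * k⁻¹ = y * g1 * (k * e * k⁻¹) * f := by
      calc k * (r * y * r⁻¹) * k⁻¹ = (k * y * k⁻¹) * (k * e * k⁻¹) * (k * f * k⁻¹) := by rw [hre]; group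
        _ = _ := by rw [b1, hkf]
    have e3 : (k * e * k⁻¹) * e⁻¹ = g1⁻¹ * g2 := by
      have e4 : g1 * (k * e * k⁻¹) = e * g2 := by
        have e5 : y * (e * (f * g2)) = y * ((g1 * (k * e * k⁻¹)) * f) := by
          calc y * (e * (f * g2)) = y * e * f * g2 := by group
            _ = _ := by rw [← e1, e2]; group
        have e6 := mul_left_cancel e5
        rw [cc _ mf _ mg2, ← mul_assoc] at e6
        exact (mul_right_cancel e6).symm
      have e7 : k * e * k⁻¹ = g1⁻¹ * (e * g2) := by rw [← e4]; group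
      rw [e7, cc _ me _ mg2]
      group
    have h5 : InZ ε {c, d} ((k * e * k⁻¹) * e⁻¹) := by
      have e8 : g1⁻¹ = g1 := inv_eq_of_mul_eq_one_left (h.ev.sq_mem (hg1.mem h.ev))
      rw [e3, e8]
      exact InZ.mul h.ev hg1 hg2
    have h6 : InZ ε {i, j} ((k * e * k⁻¹) * e⁻¹) :=
      h.EV i j hij _ (mul_mem hke (inv_mem he)) (h5.mem h.ev)
    obtain ⟨m, hm1, hm2, hm3, hm4⟩ := exists_ne h.five i j c d
    have h7 := InZ.inter h.ev (m := m) (by simp [hm3, hm4]) (by simp [hm1, hm2]) h5 h6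
    have h8 : ({c, d} ∩ {i, j} : Set (Fin n)) = ∅ := by
      ext x
      simp only [Set.mem_inter_iff, Set.mem_insert_iff, Set.mem_singleton_iff, Set.mem_empty_iff_false, iff_false,
        not_and, not_or]
      rintro (rfl | rfl)
      · exact ⟨hci, hcj⟩
      · exact ⟨hdi, hdj⟩
    rw [h8] at h7
    have h9 := h7.empty h.ev
    rw [mul_inv_eq_one] at h9
    exact mul_inv_eq_iff_eq_mul.1 h9
  have hyf : y * f ∈ E c d := mul_mem hy (h.ZE c d hcd _ hf)
  have hyfV : y * f ∉ V := mul_V h hh hyV (hf.mem h.ev)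
  rcases hKc e he k2 with h1 | h1
  · rw [hre, h1, mul_one]
    exact ⟨hyf, hyfV⟩
  · exfalso
    obtain ⟨x, hx, hxy⟩ := hh.hv c d hcd y hy hyV
    refine light3 h hh hij hcd hci hcj hdi hdj hyf hyfV (r * x) c ?_
    calc r * x * zz ε c * (r * x)⁻¹ = r * y * r⁻¹ := by rw [← hxy]; group
      _ = y * (e * f) := by rw [hre]; group
      _ = y * (f * rr ε i j) := by rw [cc _ me _ mf, h1]
      _ = _ := by group

/-- **the parabolics permute the letters** -/
theorem perm_R {Φ : (Fin n × Bool → ZMod 2) → G} (l : Lt V Q ε E Φ) {i j : Fin n} {R : Subgroup G}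
    (hR : Rp V N ε E i j R) {r : G} (hr : r ∈ R) : ∃ σ, ActD Φ r σ := by
  have hij := hR.ne
  -- heavy elements of `E_ij`
  have hvy : ∀ w, w ∈ E i j → (∃ g k, g * zz ε k * g⁻¹ = w) → Du V ε E w := by
    rintro w hw ⟨g, k, hg⟩
    by_cases hwV : w ∈ V
    · left
      rw [← hg] at hwV ⊢
      exact hh.fus g k hwV
    · exact Or.inr ⟨i, j, hij, hw, hwV⟩
  have key : ∀ c d, c ≠ d → ∀ u ∈ E c d, u ∉ V → Du V ε E (r * u * r⁻¹) := by
    have a0 : ∀ u ∈ E i j, u ∉ V → Du V ε E (r * u * r⁻¹) := by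
      intro u hu huV
      obtain ⟨x, hx, hxu⟩ := hh.hv i j hij u hu huV
      exact hvy _ (hR.RE r hr u hu) ⟨r * x, i, by rw [← hxu]; group⟩
    have a1 : ∀ c, c ≠ i → ∀ u ∈ E i c, u ∉ V → Du V ε E (r * u * r⁻¹) := by
      intro c hci u hu huV
      by_cases hcj : c = j
      · subst hcj
        exact a0 u hu huV
      · have h1 := mixed h hh hij hci hcj hu huV (hR.f5 c hci hcj r hr u hu huV)
        rcases h1.1 with h2 | h2
        · exact Or.inr ⟨i, c, Ne.symm hci, h2, h1.2⟩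
        · exact Or.inr ⟨j, c, Ne.symm hcj, h2, h1.2⟩
    have a2 : ∀ c, c ≠ j → ∀ u ∈ E j c, u ∉ V → Du V ε E (r * u * r⁻¹) := by
      intro c hcj u hu huV
      by_cases hci : c = i
      · subst hci
        rw [h.sym _ _ hij.symm] at hu
        exact a0 u hu huV
      · have h0 : ∃ e ∈ E j i, ∃ d, InZ ε {c} d ∧ r * u * r⁻¹ = u * e * d := by
          rw [h.sym j i hij.symm]
          exact hR.f5' c hci hcj r hr u hu huV
        have h1 := mixed h hh hij.symm hcj hci hu huV h0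
        rcases h1.1 with h2 | h2
        · exact Or.inr ⟨j, c, Ne.symm hcj, h2, h1.2⟩
        · exact Or.inr ⟨i, c, Ne.symm hci, h2, h1.2⟩
    intro c d hcd u hu huV
    by_cases hci : c = i
    · subst hci
      exact a1 d hcd.symm u hu huV
    by_cases hdi : d = i
    · subst hdi
      rw [h.sym _ _ hcd] at hu
      exact a1 c hcd u hu huV
    by_cases hcj : c = j
    · subst hcj
      exact a2 d hcd.symm u hu huV
    by_cases hdj : d = j
    · subst hdj
      rw [h.sym _ _ hcd] at hu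
      exact a2 c hcd u hu huV
    exact Or.inr ⟨c, d, hcd, disj h hh hR hcd hci hcj hdi hdj hr hu huV⟩
  refine l.perm h (fun m => ?_) key
  by_cases hmi : m = i
  · subst hmi
    exact hvy _ (hR.RE r hr _ (h.zzE hij).1) ⟨r, m, rfl⟩
  by_cases hmj : m = j
  · subst hmj
    exact hvy _ (hR.RE r hr _ (h.zzE hij).2) ⟨r, m, rfl⟩
  · left
    exact ⟨m, (hR.cx r hr).zz hmi hmj⟩

end heavy

end Cfsg.Agent.Omega.NO3S.SN2.VPlus
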