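import Cfsg.Agent.Omega.NO3S.SN2.VPlus.Span

/-!
# `V⁺`: the subgroups `⟨z_i : i ∈ S⟩`, homomorphisms from `F₂^Λ`, automorphisms of the duads

* `InZ ε S v` : `v ∈ ⟨z_i : i ∈ S⟩`;
* `exists_hom` : commuting involutions `L a` give a homomorphism `F₂^Λ → G`;
* `exists_perm_of_duads` : an automorphism which permutes the duads of `even(Λ) / 1` permutes the letters.
-/

set_option autoImplicit false
set_option linter.unusedSectionVars false

namespace Cfsg.Agent.Omega.NO3S.SN2.VPlus

open Subgroup Cfsg.Agent.Omega.S5.Def Cfsg.Agent.Omega.NSix.Base Cfsg.Agent.Omega.NSix.Basic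

universe u

variable {G : Type u} [Group G] {n : ℕ}

/-- `v ∈ ⟨z_i : i ∈ S⟩` -/
def InZ (ε : (Fin n → ZMod 2) → G) (S : Set (Fin n)) (v : G) : Prop :=
  ∃ x : Fin n → ZMod 2, (∀ m, m ∉ S → x m = 0) ∧ ε x = v

section InZ

variable {V L : Subgroup G} {ε : (Fin n → ZMod 2) → G} (h : EvenSet n V L ε) {S T : Set (Fin n)} {v w : G}

include h in
theorem InZ.one (S : Set (Fin n)) : InZ ε S 1 := ⟨0, fun _ _ => rfl, h.zero⟩

include h in
theorem InZ.mul (hv : InZ ε S v) (hw : InZ ε S w) : InZ ε S (v * w) := by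
  obtain ⟨x, hx, rfl⟩ := hv
  obtain ⟨y, hy, rfl⟩ := hw
  exact ⟨x + y, fun m hm => by rw [Pi.add_apply, hx m hm, hy m hm, add_zero], h.add x y⟩

theorem InZ.mono (hST : S ⊆ T) (hv : InZ ε S v) : InZ ε T v := by
  obtain ⟨x, hx, rfl⟩ := hv
  exact ⟨x, fun m hm => hx m fun hm' => hm (hST hm'), rfl⟩

theorem InZ.zz {i : Fin n} (hi : i ∈ S) : InZ ε S (zz ε i) :=
  ⟨Pi.single i 1, fun m hm => Pi.single_eq_of_ne (fun e => hm (by rw [e]; exact hi)) 1, rfl⟩

theorem InZ.tt {i j : Fin n} (hi : i ∈ S) (hj : j ∈ S) (a b : ZMod 2) : InZ ε S (tt ε i j a b) := by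
  refine ⟨_, fun m hm => ?_, rfl⟩
  have h1 : m ≠ i := fun e => hm (e ▸ hi)
  have h2 : m ≠ j := fun e => hm (e ▸ hj)
  simp [h1, h2]

include h in
theorem InZ.mem (hv : InZ ε S v) : v ∈ V := by
  obtain ⟨x, -, rfl⟩ := hv
  exact h.mem x

theorem InZ.conj {g : G} {σ : Equiv.Perm (Fin n)} (hg : Acts ε g σ) (hv : InZ ε S v) :
    InZ ε (σ '' S) (g * v * g⁻¹) := by
  obtain ⟨x, hx, rfl⟩ := hv
  refine ⟨x ∘ σ.symm, fun m hm => hx _ fun hm' => hm ⟨_, hm', Equiv.apply_symm_apply _ _⟩, (hg x).symm⟩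

include h in
theorem InZ.inter {m : Fin n} (hS : m ∉ S) (hT : m ∉ T) (hv : InZ ε S v) (hw : InZ ε T v) : InZ ε (S ∩ T) v := by
  obtain ⟨x, hx, rfl⟩ := hv
  obtain ⟨y, hy, hxy⟩ := hw
  have h1 : x = y := by
    rcases h.eq_iff.1 hxy with h1 | h1
    · exact h1.symm
    · have h2 := congrFun h1 m
      rw [hy m hT, Pi.add_apply, hx m hS, zero_add, Pi.one_apply] at h2
      exact absurd h2 zero_ne_one
  subst h1
  refine ⟨x, fun k hk => ?_, rfl⟩
  by_cases h3 : k ∈ S
  · exact hy k fun h4 => hk ⟨h3, h4⟩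
  · exact hx k h3

include h in
theorem InZ.empty (hv : InZ ε (∅ : Set (Fin n)) v) : v = 1 := by
  obtain ⟨x, hx, rfl⟩ := hv
  have : x = 0 := funext fun m => hx m (by simp)
  rw [this, h.zero]

include h in
/-- split off a letter -/
theorem InZ.split {i : Fin n} (hv : InZ ε (insert i S) v) : InZ ε S v ∨ InZ ε S (NSix.Base.zz ε i * v) := by
  classical
  obtain ⟨x, hx, rfl⟩ := hv
  have hb : x i = 0 ∨ x i = 1 := by
    generalize x i = w
    revert w
    decide
  rcases hb with hb | hb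
  · left
    refine ⟨x, fun m hm => ?_, rfl⟩
    by_cases hmi : m = i
    · rw [hmi, hb]
    · exact hx m fun h1 => h1.elim hmi hm
  · right
    refine ⟨Pi.single i 1 + x, fun m hm => ?_, by rw [h.add]; rfl⟩
    by_cases hmi : m = i
    · subst hmi
      rw [Pi.add_apply, Pi.single_eq_same, hb]
      exact CharTwo.add_self_eq_zero 1
    · rw [Pi.add_apply, Pi.single_eq_of_ne hmi, zero_add]
      exact hx m fun h1 => h1.elim hmi hm

include h in
theorem InZ.pair {i j : Fin n} (hv : InZ ε {i, j} v) : ∃ a b, v = VPlus.tt ε i j a b := by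
  rcases hv.split h with h1 | h1
  · have h1' : InZ ε (insert j ∅) v := by simpa using h1
    rcases h1'.split h with h2 | h2
    · exact ⟨0, 0, by rw [tt_zero h, h2.empty h]⟩
    · refine ⟨0, 1, ?_⟩
      rw [tt_zero_one]
      have := h2.empty h
      exact (mul_eq_one_iff_inv_eq.1 this).symm.trans (zz_inv h j)
  · have h1' : InZ ε (insert j ∅) (NSix.Base.zz ε i * v) := by simpa using h1
    rcases h1'.split h with h2 | h2
    · refine ⟨1, 0, ?_⟩
      rw [tt_one_zero]
      have := h2.empty h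
      exact (mul_eq_one_iff_inv_eq.1 this).symm.trans (zz_inv h i)
    · refine ⟨1, 1, ?_⟩
      rw [tt_one_one h]
      have h3 := h2.empty h
      rw [← mul_assoc] at h3
      have h4 : NSix.Base.zz ε j * NSix.Base.zz ε i = rr ε i j := zz_comm h _ _
      rw [h4] at h3
      exact (mul_eq_one_iff_inv_eq.1 h3).symm.trans (rr_inv h i j)

end InZ

/-- commuting involutions -/
theorem exists_hom {Λ : Type*} [Fintype Λ] [DecidableEq Λ] (L : Λ → G) (hc : ∀ a b, L a * L b = L b * L a)
    (hs : ∀ a, L a * L a = 1) : ∃ Φ : (Λ → ZMod 2) → G, (∀ x y, Φ (x + y) = Φ x * Φ y) ∧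
      (∀ a, Φ (Pi.single a 1) = L a) := by
  classical
  let φ : ∀ a : Λ, Multiplicative (ZMod 2) →* G := fun a =>
    { toFun := fun m => if Multiplicative.toAdd m = 0 then 1 else L a
      map_one' := by simp
      map_mul' := by
        intro x y
        have key : ∀ x y : ZMod 2, (if x + y = 0 then (1 : G) else L a) =
            (if x = 0 then 1 else L a) * (if y = 0 then 1 else L a) := by
          intro x y
          have hx : x = 0 ∨ x = 1 := by revert x; decide
          have hy : y = 0 ∨ y = 1 := by revert y; decide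
          have e11 : (1 : ZMod 2) + 1 = 0 := by decide
          rcases hx with rfl | rfl <;> rcases hy with rfl | rfl <;> simp [e11, hs]
        exact key _ _ }
  have hcomm : Pairwise fun a b => ∀ x y, Commute (φ a x) (φ b y) := by
    intro a b _ x y
    change (if Multiplicative.toAdd x = 0 then (1 : G) else L a) * (if Multiplicative.toAdd y = 0 then 1 else L b) =
      (if Multiplicative.toAdd y = 0 then 1 else L b) * (if Multiplicative.toAdd x = 0 then 1 else L a)
    split_ifs <;> simp [hc a b]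
  refine ⟨fun x => MonoidHom.noncommPiCoprod φ hcomm (fun a => Multiplicative.ofAdd (x a)), ?_, ?_⟩
  · intro x y
    rw [← map_mul]
    rfl
  · intro a
    have e : (fun b => Multiplicative.ofAdd ((Pi.single a 1 : Λ → ZMod 2) b)) =
        (Pi.mulSingle a (Multiplicative.ofAdd (1 : ZMod 2)) : Λ → Multiplicative (ZMod 2)) := by
      funext b
      by_cases hb : b = a
      · subst hb
        simp
      · rw [Pi.single_eq_of_ne hb, Pi.mulSingle_eq_of_ne hb]
        rfl
    change MonoidHom.noncommPiCoprod φ hcomm _ = _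
    rw [e, MonoidHom.noncommPiCoprod_mulSingle]
    change (if Multiplicative.toAdd (Multiplicative.ofAdd (1 : ZMod 2)) = 0 then (1 : G) else L a) = L a
    rw [if_neg]
    exact one_ne_zero

/-- **An automorphism which permutes the duads permutes the letters.** -/
theorem exists_perm_of_duads {Λ : Type*} [Finite Λ] (dd : Λ → Λ → G) (hΛ : 4 ≤ Nat.card Λ)
    (h0 : ∀ a, dd a a = 1) (h1 : ∀ a b c, dd a b * dd b c = dd a c) (hs : ∀ a b, dd a b = dd b a)
    (h2 : ∀ a b c d, a ≠ b → dd a b = dd c d → (a = c ∧ b = d) ∨ (a = d ∧ b = c))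
    (h3 : ∀ a b c d p q, a ≠ b → a ≠ c → a ≠ d → b ≠ c → b ≠ d → c ≠ d → p ≠ q → dd a b * dd c d ≠ dd p q)
    (f : G →* G) (hinj : Function.Injective f) (hf : ∀ a b, a ≠ b → ∃ c d, c ≠ d ∧ f (dd a b) = dd c d) :
    ∃ σ : Equiv.Perm Λ, ∀ a b, f (dd a b) = dd (σ a) (σ b) := by
  classical
  -- meeting duads
  have meet : ∀ a b c, a ≠ b → a ≠ c → b ≠ c → ∃ p q r, p ≠ q ∧ p ≠ r ∧ q ≠ r ∧ f (dd a b) = dd p q ∧
      f (dd a c) = dd p r := by
    intro a b c hab hac hbc
    obtain ⟨p, q, hpq, e1⟩ := hf a b hab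
    obtain ⟨r, s, hrs, e2⟩ := hf a c hac
    obtain ⟨t, w, htw, e3⟩ := hf b c hbc
    have e4 : dd p q * dd r s = dd t w := by
      rw [← e1, ← e2, ← e3, ← map_mul, hs a b, h1]
    have hne : dd p q ≠ dd r s := by
      intro h4
      rw [← e1, ← e2] at h4
      rcases h2 _ _ _ _ hab (hinj h4) with h5 | h5
      · exact hbc h5.2
      · exact hac h5.1
    by_cases c1 : p = r
    · subst c1
      exact ⟨p, q, s, hpq, hrs, fun e => hne (by rw [e]), e1, e2⟩
    by_cases c2 : p = s
    · subst c2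
      exact ⟨p, q, r, hpq, hrs.symm, fun e => hne (by rw [e, hs]), e1, by rw [e2, hs]⟩
    by_cases c3 : q = r
    · subst c3
      exact ⟨q, p, s, hpq.symm, hrs, fun e => hne (by rw [e, hs]), by rw [e1, hs], e2⟩
    by_cases c4 : q = s
    · subst c4
      exact ⟨q, p, r, hpq.symm, hrs.symm, c1, by rw [e1, hs], by rw [e2, hs]⟩
    exact absurd e4 (h3 _ _ _ _ _ _ hpq c1 c2 c3 c4 hrs htw)
  -- the letter
  have lett : ∀ a, ∃ p, ∀ b, a ≠ b → ∃ q, p ≠ q ∧ f (dd a b) = dd p q := by
    intro a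
    obtain ⟨b, hb⟩ : ∃ b, b ≠ a := by
      by_contra hcon
      push Not at hcon
      have : Nat.card Λ ≤ 1 := by
        rw [Finite.card_le_one_iff_subsingleton]
        exact ⟨fun x y => (hcon x).trans (hcon y).symm⟩
      omega
    obtain ⟨c, hca, hcb⟩ : ∃ c, c ≠ a ∧ c ≠ b := by
      by_contra hcon
      push Not at hcon
      have h5 : (Set.univ : Set Λ) ⊆ {a, b} := by
        intro x _
        by_cases hx : x = a
        · exact Or.inl hx
        · exact Or.inr (hcon x hx)
      have h6 := Set.ncard_le_ncard h5 (Set.toFinite _)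
      rw [Set.ncard_univ] at h6
      have h7 := Set.ncard_insert_le a {b}
      rw [Set.ncard_singleton] at h7
      omega
    obtain ⟨p, q, r, hpq, hpr, hqr, e1, e2⟩ := meet a b c hb.symm hca.symm hcb.symm
    refine ⟨p, fun d had => ?_⟩
    by_cases hdb : d = b
    · subst hdb
      exact ⟨q, hpq, e1⟩
    by_cases hdc : d = c
    · subst hdc
      exact ⟨r, hpr, e2⟩
    obtain ⟨p', q', r', hpq', hpr', hqr', e1', e3⟩ := meet a b d hb.symm had (Ne.symm hdb)
    obtain ⟨p'', q'', r'', hpq'', hpr'', hqr'', e2', e3'⟩ := meet a c d hca.symm had (Ne.symm hdc)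
    -- `f (ad) = p' r'` with `p' ∈ {p, q}`; `= p'' r''` with `p'' ∈ {p, r}`
    have a1 : p' = p ∨ p' = q := by
      rcases h2 _ _ _ _ hpq' (e1'.symm.trans e1) with h5 | h5
      · exact Or.inl h5.1
      · exact Or.inr h5.1
    have a2 : p'' = p ∨ p'' = r := by
      rcases h2 _ _ _ _ hpq'' (e2'.symm.trans e2) with h5 | h5
      · exact Or.inl h5.1
      · exact Or.inr h5.1
    have a3 := h2 _ _ _ _ hpr' (e3.symm.trans e3')
    rcases a1 with rfl | rfl
    · exact ⟨r', hpr', e3⟩
    · rcases a2 with rfl | rfl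
      · exact ⟨r'', hpr'', e3'⟩
      · -- `f (ad) = q r`, `f(ab) f(ac) f(ad) = 1`
        exfalso
        rcases a3 with h5 | h5
        · exact hqr h5.1
        · have e4 : f (dd a d) = f (dd b c) := by
            rw [e3, ← h1 b a c, map_mul, hs b a, e1, e2, hs p p', h1, h5.2]
          rcases h2 _ _ _ _ had (hinj e4) with h6 | h6
          · exact hb h6.1.symm
          · exact hca h6.1.symm
  choose σ hσ using lett
  have key : ∀ a b, a ≠ b → σ a ≠ σ b ∧ f (dd a b) = dd (σ a) (σ b) := by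
    intro a b hab
    obtain ⟨q, hq, e1⟩ := hσ a b hab
    obtain ⟨q', hq', e2⟩ := hσ b a hab.symm
    rw [hs b a] at e2
    rcases h2 _ _ _ _ hq (e1.symm.trans e2) with h5 | h5
    · -- `σ a = σ b`: all stars the same
      exfalso
      obtain ⟨c, hca, hcb⟩ : ∃ c, c ≠ a ∧ c ≠ b := by
        by_contra hcon
        push Not at hcon
        have h5 : (Set.univ : Set Λ) ⊆ {a, b} := by
          intro x _
          by_cases hx : x = a
          · exact Or.inl hx
          · exact Or.inr (hcon x hx)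
        have h6 := Set.ncard_le_ncard h5 (Set.toFinite _)
        rw [Set.ncard_univ] at h6
        have h7 := Set.ncard_insert_le a {b}
        rw [Set.ncard_singleton] at h7
        omega
      obtain ⟨r, hr, e3⟩ := hσ a c hca.symm
      obtain ⟨r', hr', e4⟩ := hσ b c hcb.symm
      -- `ab = ac · cb`
      have e5 : dd (σ a) q = dd r r' := by
        rw [← e1, ← h1 a c b, map_mul, hs c b, e3, e4, ← h5.1, hs (σ a) r, h1]
      rcases h2 _ _ _ _ hq e5 with h6 | h6
      · exact hr h6.1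
      · exact hr' (h5.1 ▸ h6.1)
    · refine ⟨fun e => hq (e.trans h5.2.symm), ?_⟩
      rw [e1, h5.2]
  have inj : Function.Injective σ := by
    intro a b hab
    by_contra hne
    exact (key a b hne).1 hab
  refine ⟨Equiv.ofBijective σ (Finite.injective_iff_bijective.1 inj), fun a b => ?_⟩
  by_cases hab : a = b
  · subst hab
    rw [h0, map_one, h0]
  · exact (key a b hab).2

end Cfsg.Agent.Omega.NO3S.SN2.VPlus
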