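import Cfsg.Agent.Omega.NO3S.SN2.VPlus.Base

/-!
# SN.Two / LightL, `V⁺ = even(2n) / 1` (helper933 #22887 (6), helper895 #23142 (f8)): the letters

`E i j` (`i ≠ j`): the group of order 8 `{1, x_ij} ∪ {heavy vectors of W_ij outside V_ij}`, `E_ij ∩ V = ⟨z_i, z_j⟩`.

* `Dt` : the hypotheses on the family;
* `Lt V Q N ε E Φ` : `Φ : F₂^(n × 2) → G` additive, `Φ {(i,0),(i,1)} = z_i`, the duads meeting two blocks `i ≠ j` are the
  elements of `E_ij - V`, the kernel on the even sets is `{0, 1}`, `q ∈ Q` acts as `∏ τ_i ^ f_i`;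
* **`Dt.exists_lt`**.
-/

set_option autoImplicit false
set_option linter.unusedSectionVars false

namespace Cfsg.Agent.Omega.NO3S.SN2.VPlus

open Subgroup Cfsg.Agent.Omega.S5.Def Cfsg.Agent.Omega.NSix.Base Cfsg.Agent.Omega.NSix.Basic

universe u

variable {G : Type u} [Group G] {n : ℕ}

theorem z01 (a : ZMod 2) : a = 0 ∨ a = 1 := by
  revert a
  decide

/-- induction for `F₂^Λ` -/
theorem ind {Λ : Type*} [Fintype Λ] [DecidableEq Λ] {P : (Λ → ZMod 2) → Prop} (h0 : P 0)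
    (hadd : ∀ x y, P x → P y → P (x + y)) (hs : ∀ a, P (Pi.single a 1)) (x : Λ → ZMod 2) : P x := by
  have h1 : x = ∑ a, Pi.single a (x a) := (Finset.univ_sum_single x).symm
  rw [h1]
  refine Finset.sum_induction _ P (fun x y => hadd x y) h0 fun a _ => ?_
  rcases z01 (x a) with h2 | h2
  · rw [h2, Pi.single_zero]
    exact h0
  · rw [h2]
    exact hs a

/-- the pair `{a, b}` -/
def pr {Λ : Type*} [DecidableEq Λ] (a b : Λ) : Λ → ZMod 2 := Pi.single a 1 + Pi.single b 1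

theorem pr_comm {Λ : Type*} [DecidableEq Λ] (a b : Λ) : pr a b = pr b a := add_comm _ _

theorem pr_apply {Λ : Type*} [DecidableEq Λ] (a b c : Λ) :
    pr a b c = (if c = a then 1 else 0) + (if c = b then 1 else 0) := by
  unfold pr
  rw [Pi.add_apply, Pi.single_apply, Pi.single_apply]

/-- **The family `E_ij`.** -/
structure Dt (V Q N : Subgroup G) (ε : (Fin n → ZMod 2) → G) (E : Fin n → Fin n → Subgroup G) : Prop where
  odd : Odd n
  five : 5 ≤ n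
  ev : EvenSet n V N ε
  Qc : ∀ q ∈ Q, ∀ v ∈ V, q * v = v * q
  sym : ∀ i j, i ≠ j → E i j = E j i
  EV : ∀ i j, i ≠ j → ∀ x ∈ E i j, x ∈ V → InZ ε {i, j} x
  ZE : ∀ i j, i ≠ j → ∀ x, InZ ε {i, j} x → x ∈ E i j
  ne : ∀ i j, i ≠ j → ∃ u ∈ E i j, u ∉ V
  idx : ∀ i j, i ≠ j → ∀ v ∈ E i j, ∀ w ∈ E i j, v ∉ V → w ∉ V → v * w ∈ V
  comm : ∀ i j, i ≠ j → ∀ k l, k ≠ l → ∀ v ∈ E i j, ∀ w ∈ E k l, v * w = w * v
  sq : ∀ i j, i ≠ j → ∀ v ∈ E i j, v * v = 1
  cj : ∀ i j, i ≠ j → ∀ g ∈ N, ∀ σ, Acts ε g σ → ∀ w ∈ E i j, g * w * g⁻¹ ∈ E (σ i) (σ j)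
  dep : ∀ i j k, i ≠ j → i ≠ k → j ≠ k → ∀ u ∈ E i j, ∀ v ∈ E i k, ∀ w ∈ E j k, u ∉ V → v ∉ V → w ∉ V →
    InZ ε {i, j, k} (u * v * w)
  Zc : ∀ i j, i ≠ j → ∀ q ∈ Q, ∀ u ∈ E i j, InZ ε {i, j} (q * u * q⁻¹ * u⁻¹)
  full : ∀ i j, i ≠ j → ∀ u ∈ E i j, u ∉ V → ∀ x, InZ ε {i, j} x → ∃ q ∈ Q, q * u * q⁻¹ * u⁻¹ = x

/-- the group generated by the `E_ij` -/
def VE (E : Fin n → Fin n → Subgroup G) : Subgroup G :=
  closure {w | ∃ i j, i ≠ j ∧ w ∈ E i j}

/-- **The letters.** -/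
structure Lt (V Q : Subgroup G) (ε : (Fin n → ZMod 2) → G) (E : Fin n → Fin n → Subgroup G)
    (Φ : (Fin n × Bool → ZMod 2) → G) : Prop where
  add : ∀ x y, Φ (x + y) = Φ x * Φ y
  mem : ∀ x, Φ x ∈ VE E
  surj : ∀ v ∈ VE E, ∃ x, ∑ a, x a = 0 ∧ Φ x = v
  blk : ∀ x : Fin n → ZMod 2, Φ (fun a => x a.1) = ε x
  pr_mem : ∀ i j, i ≠ j → ∀ a b, Φ (pr (i, a) (j, b)) ∈ E i j ∧ Φ (pr (i, a) (j, b)) ∉ V
  pr_surj : ∀ i j, i ≠ j → ∀ u ∈ E i j, u ∉ V → ∃ a b, u = Φ (pr (i, a) (j, b))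
  act : ∀ q ∈ Q, ∃ f : Fin n → ZMod 2, ∀ x, ∑ a, x a = 0 →
    q * Φ x * q⁻¹ = Φ x * ε (fun i => f i * (x (i, false) + x (i, true)))
  ker : ∀ x, ∑ a, x a = 0 → Φ x = 1 → x = 0 ∨ x = 1

namespace Dt

variable {V Q N : Subgroup G} {ε : (Fin n → ZMod 2) → G} {E : Fin n → Fin n → Subgroup G} (h : Dt V Q N ε E)
include h

theorem zzE {i j : Fin n} (hij : i ≠ j) : zz ε i ∈ E i j ∧ zz ε j ∈ E i j :=
  ⟨h.ZE i j hij _ (InZ.zz (by simp)), h.ZE i j hij _ (InZ.zz (by simp))⟩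

omit h in
theorem mem_VE {i j : Fin n} (hij : i ≠ j) {w : G} (hw : w ∈ E i j) : w ∈ VE E :=
  subset_closure ⟨i, j, hij, hw⟩

theorem VEc : ∀ x ∈ VE E, ∀ y ∈ VE E, x * y = y * x := by
  have h1 : ∀ x ∈ {w | ∃ i j, i ≠ j ∧ w ∈ E i j}, ∀ y ∈ {w | ∃ i j, i ≠ j ∧ w ∈ E i j},
      x * y = y * x := by
    rintro x ⟨i, j, hij, hx⟩ y ⟨k, l, hkl, hy⟩
    exact h.comm i j hij k l hkl x hx y hy
  intro x hx y hy
  have h2 := (Subgroup.isMulCommutative_closure h1).1.1 (⟨x, hx⟩ : Subgroup.closure _) ⟨y, hy⟩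
  exact congrArg Subtype.val h2

theorem V_le : V ≤ VE E := by
  intro v hv
  obtain ⟨x, rfl⟩ := h.ev.surj v hv
  refine ind (P := fun x => ε x ∈ VE E) ?_ ?_ ?_ x
  · change ε 0 ∈ VE E
    rw [h.ev.zero]
    exact one_mem _
  · intro x y hx hy
    change ε (x + y) ∈ VE E
    rw [h.ev.add]
    exact mul_mem hx hy
  · intro i
    obtain ⟨j, hj, -⟩ := exists_ne h.five i i i i
    exact mem_VE hj.symm (h.zzE hj.symm).1

theorem n3 : 3 ≤ n := le_trans (by norm_num) h.five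

theorem inv {i j : Fin n} (hij : i ≠ j) {u : G} (hu : u ∈ E i j) : u⁻¹ = u :=
  inv_eq_of_mul_eq_one_left (h.sq i j hij u hu)

/-- commutators with `q` are multiplicative on `V⁺` -/
theorem cmul {q x y : G} (hx : x ∈ VE E) (hy : y ∈ VE E) (hqy : q * y * q⁻¹ * y⁻¹ ∈ V) :
    q * (x * y) * q⁻¹ * (x * y)⁻¹ = (q * x * q⁻¹ * x⁻¹) * (q * y * q⁻¹ * y⁻¹) := by
  have h2 := h.VEc _ (h.V_le hqy) _ ((VE E).inv_mem hx)
  calc q * (x * y) * q⁻¹ * (x * y)⁻¹ = q * x * q⁻¹ * ((q * y * q⁻¹ * y⁻¹) * x⁻¹) := by group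
    _ = q * x * q⁻¹ * (x⁻¹ * (q * y * q⁻¹ * y⁻¹)) := by rw [h2]
    _ = _ := by group

theorem cV {q v : G} (hq : q ∈ Q) (hv : v ∈ V) : q * v * q⁻¹ * v⁻¹ = 1 := by
  rw [h.Qc q hq v hv]
  group

/-- the product of elements of `E_ij - V` and `E_ik - V` is not in `V` -/
theorem mul_notMem {i j k : Fin n} (hij : i ≠ j) (hik : i ≠ k) (hjk : j ≠ k) {u v : G} (hu : u ∈ E i j)
    (hv : v ∈ E i k) (huV : u ∉ V) : u * v ∉ V := by
  intro hc
  obtain ⟨q, hq, hqu⟩ := h.full i j hij u hu huV (zz ε j) (InZ.zz (by simp))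
  have h1 := h.Zc i k hik q hq v hv
  have h2 := h.cmul (q := q) (mem_VE hij hu) (mem_VE hik hv) (h1.mem h.ev)
  rw [h.cV hq hc, hqu] at h2
  have h3 : q * v * q⁻¹ * v⁻¹ = zz ε j := by
    rw [← zz_inv h.ev j]
    exact (eq_inv_of_mul_eq_one_right h2.symm)
  have h4 : InZ ε {j} (q * v * q⁻¹ * v⁻¹) := by
    rw [h3]
    exact InZ.zz (by simp)
  obtain ⟨m, hm1, hm2, hm3, -⟩ := exists_ne h.five i j k k
  have h5 := InZ.inter h.ev (m := m) (by simp [hm1, hm3]) (by simp [hm2]) h1 h4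
  have h6 : ({i, k} ∩ {j} : Set (Fin n)) = ∅ := by
    ext x
    simp only [Set.mem_inter_iff, Set.mem_insert_iff, Set.mem_singleton_iff, Set.mem_empty_iff_false, iff_false,
      not_and]
    rintro (rfl | rfl)
    · exact hij
    · exact hjk.symm
  rw [h6] at h5
  have h7 := h5.empty h.ev
  rw [h3] at h7
  exact zz_ne_one h.ev h.n3 j h7

/-- coherent representatives -/
theorem exists_lett (o : Fin n) : ∃ e : Fin n → G, e o = 1 ∧ (∀ j, o ≠ j → e j ∈ E o j ∧ e j ∉ V) ∧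
    (∀ j k, o ≠ j → o ≠ k → j ≠ k → e j * e k ∈ E j k ∧ e j * e k ∉ V) := by
  classical
  obtain ⟨p, hp, -⟩ := exists_ne h.five o o o o
  obtain ⟨ep, hep, hepV⟩ := h.ne o p hp.symm
  have h1 : ∀ j, o ≠ j → p ≠ j → ∃ w ∈ E o j, w ∉ V ∧ ep * w ∈ E p j := by
    intro j hoj hpj
    obtain ⟨w, hw, hwV⟩ := h.ne o j hoj
    obtain ⟨s, hs, hsV⟩ := h.ne p j hpj
    have h2 := h.dep o p j hp.symm hoj hpj ep hep w hw s hs hepV hwV hsV
    rcases h2.split h.ev with h3 | h3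
    · refine ⟨w, hw, hwV, ?_⟩
      have h4 := (E p j).mul_mem (h.ZE p j hpj _ h3) ((E p j).inv_mem hs)
      have e : ep * w * s * s⁻¹ = ep * w := by group
      rwa [e] at h4
    · have hz : zz ε o ∈ E o j := (h.zzE hoj).1
      refine ⟨w * zz ε o, mul_mem hw hz, fun hc => hwV ?_, ?_⟩
      · have := V.mul_mem hc (zz_mem h.ev o)
        rwa [mul_assoc, zz_sq h.ev, mul_one] at this
      · have h4 := (E p j).mul_mem (h.ZE p j hpj _ h3) ((E p j).inv_mem hs)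
        have h5 : zz ε o * (ep * w) = (ep * w) * zz ε o :=
          h.VEc _ (mem_VE hoj hz) _ (mul_mem (mem_VE hp.symm hep) (mem_VE hoj hw))
        have e : zz ε o * (ep * w * s) * s⁻¹ = ep * (w * zz ε o) := by
          calc zz ε o * (ep * w * s) * s⁻¹ = zz ε o * (ep * w) := by group
            _ = _ := by rw [h5, mul_assoc]
        rwa [e] at h4
  choose! w hw hwV hwp using h1
  refine ⟨fun j => if j = o then 1 else if j = p then ep else w j, by simp, ?_, ?_⟩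
  · intro j hoj
    simp only [if_neg hoj.symm]
    by_cases hjp : j = p
    · subst hjp
      simp only [if_true]
      exact ⟨hep, hepV⟩
    · simp only [if_neg hjp]
      exact ⟨hw j hoj (Ne.symm hjp), hwV j hoj (Ne.symm hjp)⟩
  · have key : ∀ j k, o ≠ j → o ≠ k → p ≠ j → p ≠ k → j ≠ k → w j * w k ∈ E j k := by
      intro j k hoj hok hpj hpk hjk
      obtain ⟨s, hs, hsV⟩ := h.ne j k hjk
      have a1 := h.dep o j k hoj hok hjk _ (hw j hoj hpj) _ (hw k hok hpk) s hs (hwV j hoj hpj) (hwV k hok hpk) hsV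
      have nV : ∀ j, o ≠ j → p ≠ j → ep * w j ∉ V := fun j hoj hpj =>
        h.mul_notMem hp.symm hoj hpj hep (hw j hoj hpj) hepV
      have a2 := h.dep p j k hpj hpk hjk _ (hwp j hoj hpj) _ (hwp k hok hpk) s hs (nV j hoj hpj) (nV k hok hpk) hsV
      have e : ep * w j * (ep * w k) * s = w j * w k * s := by
        have b1 : w j * ep = ep * w j := h.VEc _ (mem_VE hoj (hw j hoj hpj)) _ (mem_VE hp.symm hep)
        calc ep * w j * (ep * w k) * s = ep * (w j * ep) * w k * s := by group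
          _ = (ep * ep) * (w j * w k * s) := by rw [b1]; group
          _ = _ := by rw [h.sq o p hp.symm ep hep, one_mul]
      rw [e] at a2
      obtain ⟨m, hm1, hm2, hm3, hm4⟩ := exists_ne h.five o p j k
      have a3 := InZ.inter h.ev (m := m) (by simp [hm1, hm3, hm4]) (by simp [hm2, hm3, hm4]) a1 a2
      have a4 : InZ ε {j, k} (w j * w k * s) := a3.mono (by
        intro x hx
        simp only [Set.mem_inter_iff, Set.mem_insert_iff, Set.mem_singleton_iff] at hx ⊢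
        rcases hx with ⟨hx1 | hx1, hx2 | hx2⟩
        · exact absurd (hx1.symm.trans hx2) hp.symm
        · exact hx2
        · exact hx1
        · exact hx1)
      have a5 := (E j k).mul_mem (h.ZE j k hjk _ a4) ((E j k).inv_mem hs)
      have e2 : w j * w k * s * s⁻¹ = w j * w k := by group
      rwa [e2] at a5
    intro j k hoj hok hjk
    simp only [if_neg hoj.symm, if_neg hok.symm]
    by_cases hjp : j = p
    · subst hjp
      simp only [if_true, if_neg hjk.symm]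
      exact ⟨hwp k hok hjk, h.mul_notMem hoj hok hjk hep (hw k hok hjk) hepV⟩
    · by_cases hkp : k = p
      · subst hkp
        simp only [if_true, if_neg hjk]
        have b1 : w j * ep = ep * w j := h.VEc _ (mem_VE hoj (hw j hoj hjk.symm)) _ (mem_VE hok hep)
        rw [b1, h.sym j k hjk]
        exact ⟨hwp j hoj hjk.symm, h.mul_notMem hok hoj hjk.symm hep (hw j hoj hjk.symm) hepV⟩
      · simp only [if_neg hjp, if_neg hkp]
        exact ⟨key j k hoj hok (Ne.symm hjp) (Ne.symm hkp) hjk,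
          h.mul_notMem hoj hok hjk (hw j hoj (Ne.symm hjp)) (hw k hok (Ne.symm hkp)) (hwV j hoj (Ne.symm hjp))⟩

end Dt

end Cfsg.Agent.Omega.NO3S.SN2.VPlus
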