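import Cfsg.Agent.Omega.NO3S.SN2.VPlus.Duad

/-!
# SN.Two / LightL, `V⁺ = even(2n) / 1`: existence of the letters

**`Dt.exists_lt : Dt V Q N ε E → ∃ Φ, Lt V Q ε E Φ`.**
-/

set_option autoImplicit false
set_option linter.unusedSectionVars false

namespace Cfsg.Agent.Omega.NO3S.SN2.VPlus

open Subgroup Cfsg.Agent.Omega.S5.Def Cfsg.Agent.Omega.NSix.Base Cfsg.Agent.Omega.NSix.Basic

universe u

variable {G : Type u} [Group G] {n : ℕ}

theorem two_add (a : ZMod 2) : a + a = 0 := CharTwo.add_self_eq_zero a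

theorem sum_fst (x : Fin n → ZMod 2) : ∑ a : Fin n × Bool, x a.1 = 0 := by
  rw [Fintype.sum_prod_type]
  refine Finset.sum_eq_zero fun i _ => ?_
  rw [Fintype.sum_bool]
  exact two_add _

theorem sum_pr {Λ : Type*} [Fintype Λ] [DecidableEq Λ] (a b : Λ) : ∑ c, pr a b c = 0 := by
  simp only [pr, Pi.add_apply]
  rw [Finset.sum_add_distrib]
  simp only [Finset.sum_pi_single', Finset.mem_univ, if_true]
  exact two_add 1

namespace Dt

variable {V Q N : Subgroup G} {ε : (Fin n → ZMod 2) → G} {E : Fin n → Fin n → Subgroup G} (h : Dt V Q N ε E)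
include h

theorem exists_lt : ∃ Φ : (Fin n × Bool → ZMod 2) → G, Lt V Q ε E Φ := by
  classical
  obtain ⟨m0, hm0⟩ : ∃ m0 : Fin n, True := ⟨⟨0, by have := h.five; omega⟩, trivial⟩
  obtain ⟨e, he0, he1, he2⟩ := h.exists_lett m0
  obtain ⟨p, hp, -⟩ := exists_ne h.five m0 m0 m0 m0
  -- the products
  have eij : ∀ i j, i ≠ j → e i * e j ∈ E i j ∧ e i * e j ∉ V := by
    intro i j hij
    by_cases hi : m0 = i
    · subst hi
      rw [he0, one_mul]
      exact he1 j hij
    · by_cases hj : m0 = j
      · subst hj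
        rw [he0, mul_one, h.sym i _ hij]
        exact he1 i hij.symm
      · exact he2 i j hi hj hij
  have eVE : ∀ i, e i ∈ VE E := by
    intro i
    by_cases hi : m0 = i
    · subst hi
      rw [he0]
      exact one_mem _
    · exact mem_VE hi (he1 i hi).1
  have esq : ∀ i, e i * e i = 1 := by
    intro i
    by_cases hi : m0 = i
    · subst hi
      rw [he0, one_mul]
    · exact h.sq _ _ hi _ (he1 i hi).1
  let ζ : Fin n × Bool → G := fun a => if a.2 then zz ε a.1 else 1
  have ζV : ∀ a, ζ a ∈ V := by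
    intro a
    change (if a.2 then zz ε a.1 else 1) ∈ V
    split_ifs
    · exact zz_mem h.ev _
    · exact one_mem _
  have ζVE : ∀ a, ζ a ∈ VE E := fun a => h.V_le (ζV a)
  have ζsq : ∀ a, ζ a * ζ a = 1 := fun a => h.ev.sq_mem (ζV a)
  let ℓ : Fin n × Bool → G := fun a => e a.1 * ζ a
  have ℓVE : ∀ a, ℓ a ∈ VE E := fun a => mul_mem (eVE _) (ζVE _)
  have ℓc : ∀ a b, ℓ a * ℓ b = ℓ b * ℓ a := fun a b => h.VEc _ (ℓVE a) _ (ℓVE b)
  have ℓs : ∀ a, ℓ a * ℓ a = 1 := by
    intro a
    have h1 := h.VEc _ (ζVE a) _ (eVE a.1)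
    calc e a.1 * ζ a * (e a.1 * ζ a) = e a.1 * (ζ a * e a.1) * ζ a := by group
      _ = (e a.1 * e a.1) * (ζ a * ζ a) := by rw [h1]; group
      _ = 1 := by rw [esq, ζsq, one_mul]
  have ℓ2 : ∀ a b, ℓ a * ℓ b = (e a.1 * e b.1) * (ζ a * ζ b) := by
    intro a b
    have h1 := h.VEc _ (ζVE a) _ (eVE b.1)
    calc e a.1 * ζ a * (e b.1 * ζ b) = e a.1 * (ζ a * e b.1) * ζ b := by group
      _ = _ := by rw [h1]; group
  obtain ⟨Φ, hadd, hsing⟩ := exists_hom ℓ ℓc ℓs
  have hΦ0 : Φ 0 = 1 := by
    have := hadd 0 0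
    rw [add_zero] at this
    exact (left_eq_mul.1 this)
  have hpr : ∀ a b, Φ (pr a b) = ℓ a * ℓ b := fun a b => by rw [pr, hadd, hsing, hsing]
  have hmem : ∀ x, Φ x ∈ VE E := by
    refine ind ?_ ?_ ?_
    · rw [hΦ0]
      exact one_mem _
    · intro x y hx hy
      rw [hadd]
      exact mul_mem hx hy
    · intro a
      rw [hsing]
      exact ℓVE a
  -- blocks
  have hblk : ∀ x : Fin n → ZMod 2, Φ (fun a => x a.1) = ε x := by
    refine ind ?_ ?_ ?_
    · have e1 : (fun a : Fin n × Bool => (0 : Fin n → ZMod 2) a.1) = 0 := rfl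
      rw [e1, hΦ0, h.ev.zero]
    · intro x y hx hy
      have e1 : (fun a : Fin n × Bool => (x + y) a.1) = (fun a => x a.1) + fun a => y a.1 := rfl
      rw [e1, hadd, hx, hy, h.ev.add]
    · intro i
      have e1 : (fun a : Fin n × Bool => (Pi.single i 1 : Fin n → ZMod 2) a.1) = pr (i, false) (i, true) := by
        funext a
        rw [pr_apply]
        obtain ⟨k, b⟩ := a
        by_cases hk : k = i
        · subst hk
          cases b <;> simp
        · simp [hk]
      rw [e1, hpr, ℓ2]
      change e i * e i * (1 * zz ε i) = _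
      rw [esq, one_mul, one_mul]
      rfl
  have hζ : ∀ i j a b, InZ ε {i, j} (ζ (i, a) * ζ (j, b)) := by
    intro i j a b
    refine InZ.mul h.ev ?_ ?_
    · cases a
      · exact InZ.one h.ev _
      · exact InZ.zz (by simp)
    · cases b
      · exact InZ.one h.ev _
      · exact InZ.zz (by simp)
  have hprm : ∀ i j, i ≠ j → ∀ a b, Φ (pr (i, a) (j, b)) ∈ E i j ∧ Φ (pr (i, a) (j, b)) ∉ V := by
    intro i j hij a b
    rw [hpr, ℓ2]
    obtain ⟨h1, h2⟩ := eij i j hij
    refine ⟨mul_mem h1 (h.ZE i j hij _ (hζ i j a b)), fun hc => h2 ?_⟩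
    have h3 := V.mul_mem hc (V.inv_mem ((hζ i j a b).mem h.ev))
    have e1 : (e i * e j) * (ζ (i, a) * ζ (j, b)) * (ζ (i, a) * ζ (j, b))⁻¹ = e i * e j := by group
    rwa [e1] at h3
  have hprs : ∀ i j, i ≠ j → ∀ u ∈ E i j, u ∉ V → ∃ a b, u = Φ (pr (i, a) (j, b)) := by
    intro i j hij u hu huV
    obtain ⟨h1, h2⟩ := eij i j hij
    have h3 := h.idx i j hij _ h1 _ hu h2 huV
    obtain ⟨α, β, h4⟩ := (h.EV i j hij _ (mul_mem h1 hu) h3).pair h.ev
    have h5 : u = (e i * e j) * VPlus.tt ε i j α β := by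
      rw [← h4]
      have := h.sq i j hij _ h1
      calc u = (e i * e j * (e i * e j)) * u := by rw [this, one_mul]
        _ = _ := by group
    refine ⟨α == 1, β == 1, ?_⟩
    rw [hpr, ℓ2, h5]
    congr 1
    rcases z01 α with rfl | rfl <;> rcases z01 β with rfl | rfl
    · rw [tt_zero h.ev]
      exact (one_mul 1).symm
    · rw [tt_zero_one]
      exact (one_mul _).symm
    · rw [tt_one_zero]
      exact (mul_one _).symm
    · rw [tt_one_one h.ev]
      rfl
  have hsurj : ∀ v ∈ VE E, ∃ x, ∑ a, x a = 0 ∧ Φ x = v := by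
    intro v hv
    refine Subgroup.closure_induction (p := fun v _ => ∃ x, ∑ a, x a = 0 ∧ Φ x = v) ?_ ?_ ?_ ?_ hv
    · rintro v ⟨i, j, hij, hv⟩
      by_cases hvV : v ∈ V
      · obtain ⟨x, rfl⟩ := h.ev.surj v hvV
        exact ⟨_, sum_fst x, hblk x⟩
      · obtain ⟨a, b, rfl⟩ := hprs i j hij v hv hvV
        exact ⟨_, sum_pr _ _, rfl⟩
    · exact ⟨0, by simp, hΦ0⟩
    · rintro _ _ _ _ ⟨x, hx, rfl⟩ ⟨y, hy, rfl⟩
      refine ⟨x + y, ?_, hadd x y⟩
      simp only [Pi.add_apply]
      rw [Finset.sum_add_distrib, hx, hy, add_zero]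
    · rintro _ _ ⟨x, hx, rfl⟩
      refine ⟨x, hx, ?_⟩
      have h1 : Φ x * Φ x = 1 := by
        rw [← hadd]
        have : x + x = 0 := funext fun a => two_add _
        rw [this, hΦ0]
      exact (inv_eq_of_mul_eq_one_left h1).symm
  -- the action of `q`
  have hact : ∀ q ∈ Q, ∃ f : Fin n → ZMod 2, ∀ x, ∑ a, x a = 0 →
      q * Φ x * q⁻¹ = Φ x * ε (fun i => f i * (x (i, false) + x (i, true))) := by
    intro q hq
    have h1 : ∀ i, m0 ≠ i → ∃ a b, q * e i * q⁻¹ * (e i)⁻¹ = VPlus.tt ε m0 i a b := fun i hi =>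
      (h.Zc m0 i hi q hq _ (he1 i hi).1).pair h.ev
    choose! a b hab using h1
    have hac : ∀ i, m0 ≠ i → a i = a p := by
      intro i hi
      by_cases hip : i = p
      · rw [hip]
      have h2 : q * (e i * e p) * q⁻¹ * (e i * e p)⁻¹ = VPlus.tt ε m0 i (a i) (b i) * VPlus.tt ε m0 p (a p) (b p) := by
        rw [h.cmul (eVE i) (eVE p) (by rw [hab p hp.symm]; exact tt_mem h.ev _ _ _ _), hab i hi, hab p hp.symm]
      obtain ⟨x, hx, hx2⟩ := h.Zc i p hip q hq _ (eij i p hip).1
      rw [h2] at hx2
      obtain ⟨m, hm1, hm2, hm3, -⟩ := exists_ne h.five m0 i p p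
      unfold VPlus.tt at hx2
      rw [← h.ev.add] at hx2
      rcases h.ev.eq_iff.1 hx2 with h3 | h3
      · have h4 := congrFun h3 m0
        rw [hx m0 (by simp [hi, hp.symm])] at h4
        simp [hi, hp.symm] at h4
        rw [← sub_eq_zero, CharTwo.sub_eq_add]
        exact h4.symm
      · have h4 := congrFun h3 m
        rw [hx m (by simp [hm2, hm3])] at h4
        simp [hm1, hm2, hm3] at h4
    let f : Fin n → ZMod 2 := fun i => if i = m0 then a p else b i
    have hf0 : f m0 = a p := if_pos rfl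
    have hf1 : ∀ i, m0 ≠ i → f i = b i := fun i hi => if_neg hi.symm
    let D : (Fin n × Bool → ZMod 2) → (Fin n → ZMod 2) := fun x m =>
      (∑ c, x c) * (f m0 * (Pi.single m0 1 : Fin n → ZMod 2) m) + f m * (x (m, false) + x (m, true))
    have hD : ∀ x, q * Φ x * q⁻¹ = Φ x * ε (D x) := by
      refine ind ?_ ?_ ?_
      · have e1 : D 0 = 0 := by
          funext m
          simp [D]
        rw [e1, hΦ0, h.ev.zero]
        group
      · intro x y hx hy
        have e1 : D (x + y) = D x + D y := by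
          funext m
          simp only [D, Pi.add_apply]
          rw [Finset.sum_add_distrib]
          ring
        have e2 : ε (D x) * Φ y = Φ y * ε (D x) := h.VEc _ (h.V_le (h.ev.mem _)) _ (hmem y)
        rw [e1, hadd, h.ev.add]
        calc q * (Φ x * Φ y) * q⁻¹ = (q * Φ x * q⁻¹) * (q * Φ y * q⁻¹) := by group
          _ = Φ x * (ε (D x) * Φ y) * ε (D y) := by rw [hx, hy]; group
          _ = _ := by rw [e2]; group
      · rintro ⟨i, c⟩
        have e1 : D (Pi.single (i, c) 1) = fun m => f m0 * (Pi.single m0 1 : Fin n → ZMod 2) m +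
            f m * (Pi.single i 1 : Fin n → ZMod 2) m := by
          funext m
          simp only [D]
          rw [Finset.sum_pi_single', if_pos (Finset.mem_univ _), one_mul]
          congr 2
          by_cases hmi : m = i
          · subst hmi
            cases c <;> simp
          · simp [hmi]
        rw [e1, hsing]
        change q * (e i * ζ (i, c)) * q⁻¹ = e i * ζ (i, c) * _
        by_cases hi : m0 = i
        · subst hi
          have e2 : (fun m => f m0 * (Pi.single m0 1 : Fin n → ZMod 2) m +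
              f m * (Pi.single m0 1 : Fin n → ZMod 2) m) = 0 := by
            funext m
            by_cases hm : m = m0
            · subst hm
              simp [two_add]
            · simp [hm]
          rw [e2, h.ev.zero, mul_one, he0, one_mul, h.Qc q hq _ (ζV _)]
          group
        · have e2 : ε (fun m => f m0 * (Pi.single m0 1 : Fin n → ZMod 2) m +
              f m * (Pi.single i 1 : Fin n → ZMod 2) m) = VPlus.tt ε m0 i (a i) (b i) := by
            unfold VPlus.tt
            congr 1
            funext m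
            rw [hf0, hac i hi]
            simp only [Pi.add_apply, Pi.smul_apply, smul_eq_mul]
            congr 1
            by_cases hm : m = i
            · subst hm
              rw [hf1 m hi]
            · simp [hm]
          rw [e2]
          have e3 : q * e i * q⁻¹ = VPlus.tt ε m0 i (a i) (b i) * e i := by
            rw [← hab i hi]
            group
          have e4 : q * ζ (i, c) * q⁻¹ = ζ (i, c) := by
            rw [h.Qc q hq _ (ζV _)]
            group
          have e5 : VPlus.tt ε m0 i (a i) (b i) * (e i * ζ (i, c)) =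
              (e i * ζ (i, c)) * VPlus.tt ε m0 i (a i) (b i) :=
            h.VEc _ (h.V_le (tt_mem h.ev _ _ _ _)) _ (mul_mem (eVE i) (ζVE _))
          calc q * (e i * ζ (i, c)) * q⁻¹ = (q * e i * q⁻¹) * (q * ζ (i, c) * q⁻¹) := by group
            _ = VPlus.tt ε m0 i (a i) (b i) * (e i * ζ (i, c)) := by rw [e3, e4]; group
            _ = _ := e5
    refine ⟨f, fun x hx => ?_⟩
    rw [hD x]
    congr 2
    funext m
    simp only [D]
    rw [hx, zero_mul, zero_add]
  refine ⟨Φ, hadd, hmem, hsurj, hblk, hprm, hprs, hact, ?_⟩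
  -- the kernel
  intro x hx hΦx
  have hy : ∀ i, x (i, false) + x (i, true) = 0 := by
    by_contra hcon
    push Not at hcon
    obtain ⟨i, hi⟩ := hcon
    have hi1 : x (i, false) + x (i, true) = 1 := (z01 _).resolve_left hi
    -- a letter with `y_j = 0`
    obtain ⟨j, hj⟩ : ∃ j, x (j, false) + x (j, true) = 0 := by
      by_contra hcon
      push Not at hcon
      have h1 : ∑ a, x a = ∑ i : Fin n, (x (i, false) + x (i, true)) := by
        rw [Fintype.sum_prod_type]
        refine Finset.sum_congr rfl fun i _ => ?_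
        simp [add_comm]
      have h2 : ∑ i : Fin n, (x (i, false) + x (i, true)) = ∑ _i : Fin n, (1 : ZMod 2) :=
        Finset.sum_congr rfl fun i _ => (z01 _).resolve_left (hcon i)
      rw [h1, h2, Finset.sum_const, Finset.card_univ, Fintype.card_fin, nsmul_eq_mul, mul_one] at hx
      obtain ⟨k, hk⟩ := h.odd
      rw [hk] at hx
      push_cast at hx
      have e2 : (2 : ZMod 2) = 0 := by decide
      rw [e2, zero_mul, zero_add] at hx
      exact one_ne_zero hx
    have hij : i ≠ j := by
      rintro rfl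
      exact hi hj
    -- `q` with `f_i = 1`
    obtain ⟨hu, huV⟩ := hprm i j hij false false
    obtain ⟨q, hq, hqu⟩ := h.full i j hij _ hu huV (zz ε i) (InZ.zz (by simp))
    obtain ⟨f, hf⟩ := hact q hq
    have h3 := hf (pr (i, false) (j, false)) (sum_pr _ _)
    have h4 : ε (fun m => f m * (pr (i, false) (j, false) (m, false) + pr (i, false) (j, false) (m, true))) =
        zz ε i := by
      have h5 : Φ (pr (i, false) (j, false)) * ε (fun m => f m * (pr (i, false) (j, false) (m, false) +
          pr (i, false) (j, false) (m, true))) = zz ε i * Φ (pr (i, false) (j, false)) := by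
        rw [← h3, ← hqu]
        group
      have h6 := h.VEc _ (h.V_le (zz_mem h.ev i)) _ (hmem (pr (i, false) (j, false)))
      rw [h6] at h5
      exact mul_left_cancel h5
    have hfi : f i = 1 := by
      unfold zz at h4
      obtain ⟨m, hm1, hm2, -⟩ := exists_ne h.five i j j j
      rcases h.ev.eq_iff.1 h4 with h5 | h5
      · have h6 := congrFun h5 i
        rw [pr_apply, pr_apply] at h6
        simpa [hij] using h6
      · have h6 := congrFun h5 m
        rw [pr_apply, pr_apply] at h6
        simp [hm1, hm2] at h6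
    have h7 := hf x hx
    rw [hΦx, mul_one, mul_inv_cancel, one_mul] at h7
    rcases (h.ev.ker _).1 h7.symm with h8 | h8
    · have h9 := congrFun h8 i
      rw [hfi, hi1] at h9
      simp at h9
    · have h9 := congrFun h8 j
      rw [hj] at h9
      simp at h9
  have hx2 : x = fun a => x (a.1, false) := by
    funext a
    obtain ⟨i, b⟩ := a
    cases b
    · rfl
    · have := hy i
      change x (i, true) = x (i, false)
      exact (eq_of_sub_eq_zero (by rw [CharTwo.sub_eq_add, add_comm]; exact this))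
  have h1 : ε (fun i => x (i, false)) = 1 := by
    rw [← hblk]
    have e1 : (fun a : Fin n × Bool => (fun i => x (i, false)) a.1) = x := hx2.symm
    rw [e1, hΦx]
  rcases (h.ev.ker _).1 h1 with h2 | h2
  · left
    rw [hx2]
    funext a
    exact congrFun h2 a.1
  · right
    rw [hx2]
    funext a
    exact congrFun h2 a.1

end Dt

end Cfsg.Agent.Omega.NO3S.SN2.VPlus
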