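import Cfsg.Agent.Omega.NO3S.SN2.VPlus.Sym
import Cfsg.Agent.Omega.SQT.RankThree

/-!
# LightL / SN.Two for `m_3(G) ≤ 2` (`K = QK`; helper534 #23321)

**`rank_false`** : the situation of `sym` is impossible in a group of 3-rank at most 2 (`Sym(10) ≥ S₃ × S₃ × S₃`).
-/

set_option autoImplicit false
set_option linter.unusedSectionVars false

namespace Cfsg.Agent.Omega.NO3S.SN2.VPlus

open Subgroup Cfsg Cfsg.Agent.Omega.S5.Def Cfsg.Agent.Omega.NSix.Base Cfsg.Agent.Omega.NSix.Basic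

universe u

variable {G : Type u} [Group G] {n : ℕ} {V Q N : Subgroup G} {ε : (Fin n → ZMod 2) → G}
  {E : Fin n → Fin n → Subgroup G} {Φ : (Fin n × Bool → ZMod 2) → G}

theorem rank_false [Finite G] (hr : PRankLE 3 2 G) (h : Dt V Q N ε E) (l : Lt V Q ε E Φ) {M : Subgroup G}
    (hs : ∀ σ : Equiv.Perm (Fin n × Bool), ∃ g ∈ M, ActD Φ g σ) : False := by
  classical
  obtain ⟨ι⟩ : Nonempty ((Fin 3 × Fin 3) ↪ (Fin n × Bool)) := by
    apply Function.Embedding.nonempty_of_card_le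
    rw [Fintype.card_prod, Fintype.card_prod, Fintype.card_fin, Fintype.card_fin, Fintype.card_bool]
    have := h.five
    omega
  let d : Fin 3 → Fin 3 → G := fun i a => Φ (pr (ι (i, a + 1)) (ι (i, a + 2)))
  have key : ∀ i (τ : Equiv.Perm (Fin 3)), ∃ g ∈ M, SQT.RankThree.Act d g (Pi.mulSingle i τ) := by
    intro i τ
    let ρ : Equiv.Perm (Fin 3 × Fin 3) := Equiv.prodCongrRight (Pi.mulSingle i τ)
    obtain ⟨g, hg, hσ⟩ := hs (ρ.viaEmbedding ι)
    refine ⟨g, hg, fun j a => ?_⟩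
    change g * Φ (pr (ι (j, a + 1)) (ι (j, a + 2))) * g⁻¹ = Φ (pr (ι (j, _ + 1)) (ι (j, _ + 2)))
    rw [hσ, Equiv.Perm.viaEmbedding_apply, Equiv.Perm.viaEmbedding_apply]
    change Φ (pr (ι (j, (Pi.mulSingle i τ : Fin 3 → Equiv.Perm (Fin 3)) j (a + 1)))
      (ι (j, (Pi.mulSingle i τ : Fin 3 → Equiv.Perm (Fin 3)) j (a + 2)))) = _
    generalize (Pi.mulSingle i τ : Fin 3 → Equiv.Perm (Fin 3)) j = θ
    have h1 : ∀ (θ : Equiv.Perm (Fin 3)) (a : Fin 3), (θ (a + 1) = θ a + 1 ∧ θ (a + 2) = θ a + 2) ∨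
        (θ (a + 1) = θ a + 2 ∧ θ (a + 2) = θ a + 1) := by decide
    rcases h1 θ a with h2 | h2
    · rw [h2.1, h2.2]
    · rw [h2.1, h2.2, pr_comm]
  refine SQT.RankThree.no_act hr M d ?_ (fun i => key i _) (fun i => key i _)
  intro i a b hab
  have hne : ∀ a : Fin 3, a + 1 ≠ a + 2 := by decide
  have h1 := l.inj h (fun e => hne a (congrArg Prod.snd (ι.injective e))) hab
  have h2 : (a + 1 = b + 1 ∧ a + 2 = b + 2) ∨ (a + 1 = b + 2 ∧ a + 2 = b + 1) := by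
    rcases h1 with h1 | h1
    · exact Or.inl ⟨congrArg Prod.snd (ι.injective h1.1), congrArg Prod.snd (ι.injective h1.2)⟩
    · exact Or.inr ⟨congrArg Prod.snd (ι.injective h1.1), congrArg Prod.snd (ι.injective h1.2)⟩
  revert h2
  clear * -
  revert a b
  decide

end Cfsg.Agent.Omega.NO3S.SN2.VPlus
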