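import Cfsg.Agent.Omega.NSix.Basic

/-!
# SN.Two / LightL, `V⁺` (helper933, bb #22887 (6)): `W(T')` depends on the pair only

`V` the even sets of `n` letters (`n` odd `≥ 5`), `Q ≤ C(V)`, `N = N_L(Q)` induces `Sym(n)`.
`Pl i j t W` : `t ∈ N` acts as `(i j)`, `W` is the plane `W_R` of a minimal parabolic `R` over `Q⟨t⟩`.

* `Sys` : the hypotheses (no exact group, no `A(G)`, level free);
* `Sys.move` : `t ∈ T - Q` moves `W(T')` modulo `V` (`T` over `ij`, `T'` over `ik`) [(C)];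
* **`Sys.uniq`** : `W(T')` depends on the pair only;
* `Sys.exists_fam` : the family `W i j`; `Fam` its properties;
* **`Fam.norm_N`, `Fam.norm_R`** : `V⁺` is normalised by `N` and by every `R`.
-/

set_option autoImplicit false
set_option linter.unusedSectionVars false

namespace Cfsg.Agent.Omega.NO3S.SN2.VPlus

open Subgroup Cfsg.Agent.Omega.S5.Def Cfsg.Agent.Omega.NSix.Base Cfsg.Agent.Omega.NSix.Basic

universe u

variable {G : Type u} [Group G] {n : ℕ}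

/-- `z_i ^ a z_j ^ b`. -/
def tt (ε : (Fin n → ZMod 2) → G) (i j : Fin n) (a b : ZMod 2) : G :=
  ε (a • Pi.single i 1 + b • Pi.single j 1)

theorem exists_ne {n : ℕ} (hn : 5 ≤ n) (i j k l : Fin n) : ∃ m : Fin n, m ≠ i ∧ m ≠ j ∧ m ≠ k ∧ m ≠ l := by
  obtain ⟨m, hm⟩ : ∃ m : Fin n, m ∉ ({i, j, k, l} : Finset (Fin n)) := by
    by_contra hcon
    push Not at hcon
    have h1 : (Finset.univ : Finset (Fin n)) ⊆ {i, j, k, l} := fun k _ => hcon k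
    have h2 := Finset.card_le_card h1
    rw [Finset.card_univ, Fintype.card_fin] at h2
    have h3 : ({i, j, k, l} : Finset (Fin n)).card ≤ 4 := Finset.card_le_four
    omega
  simp only [Finset.mem_insert, Finset.mem_singleton, not_or] at hm
  exact ⟨m, hm⟩

section tt

variable {V L : Subgroup G} {ε : (Fin n → ZMod 2) → G} (h : EvenSet n V L ε)
include h

theorem tt_mem (i j : Fin n) (a b : ZMod 2) : tt ε i j a b ∈ V := h.mem _

theorem tt_zero (i j : Fin n) : tt ε i j 0 0 = 1 := by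
  unfold tt
  rw [zero_smul, zero_smul, add_zero, h.zero]

omit h in
theorem tt_zero_one (i j : Fin n) : tt ε i j 0 1 = zz ε j := by
  unfold tt zz
  rw [zero_smul, one_smul, zero_add]

omit h in
theorem tt_one_zero (i j : Fin n) : tt ε i j 1 0 = zz ε i := by
  unfold tt zz
  rw [zero_smul, one_smul, add_zero]

theorem tt_one_one (i j : Fin n) : tt ε i j 1 1 = rr ε i j := by
  unfold tt rr zz
  rw [one_smul, one_smul, h.add]

omit h in
theorem tt_symm (i j : Fin n) (a b : ZMod 2) : tt ε i j a b = tt ε j i b a := by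
  unfold tt
  rw [add_comm]

theorem tt_add (i j : Fin n) (a b a' b' : ZMod 2) :
    tt ε i j a b * tt ε i j a' b' = tt ε i j (a + a') (b + b') := by
  unfold tt
  rw [← h.add]
  congr 1
  rw [add_smul, add_smul]
  abel

theorem tt_inv (i j : Fin n) (a b : ZMod 2) : (tt ε i j a b)⁻¹ = tt ε i j a b := h.inv _

omit h in
theorem tt_conj {g : G} {σ : Equiv.Perm (Fin n)} (hg : Acts ε g σ) (i j : Fin n) (a b : ZMod 2) :
    g * tt ε i j a b * g⁻¹ = tt ε (σ i) (σ j) a b := by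
  unfold tt
  rw [hg]
  congr 1
  have e : ∀ k : Fin n, (Pi.single k 1 : Fin n → ZMod 2) ∘ σ.symm = Pi.single (σ k) 1 := by
    intro k
    funext l
    by_cases hl : l = σ k
    · subst hl
      simp
    · have h1 : σ.symm l ≠ k := fun h0 => hl (by rw [← h0, Equiv.apply_symm_apply])
      simp [Function.comp, hl, h1]
  rw [← e i, ← e j]
  rfl

/-- `⟨z_i, z_j⟩ ∩ ⟨z_i, z_k⟩ = ⟨z_i⟩` -/
theorem tt_meet (hn : 5 ≤ n) {i j k : Fin n} (hij : i ≠ j) (hik : i ≠ k) (hjk : j ≠ k) {a b a' b' : ZMod 2}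
    (he : tt ε i j a b = tt ε i k a' b') : b = 0 ∧ b' = 0 := by
  obtain ⟨m, hm1, hm2, hm3, -⟩ := exists_ne hn i j k k
  have key : ∀ x y : ZMod 2, ∀ p q r : Fin n, r ≠ p → r ≠ q →
      (x • Pi.single p 1 + y • Pi.single q 1 : Fin n → ZMod 2) r = 0 := by
    intro x y p q r h1 h2
    simp [h1, h2]
  have k2 : ∀ x y : ZMod 2, ∀ p q : Fin n, p ≠ q →
      (x • Pi.single p 1 + y • Pi.single q 1 : Fin n → ZMod 2) q = y := by
    intro x y p q h1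
    simp [h1.symm]
  rcases h.eq_iff.1 he with h1 | h1
  · have h2 := congrFun h1 j
    have h3 := congrFun h1 k
    rw [k2 a b i j hij, key a' b' i k j hij.symm hjk] at h2
    rw [k2 a' b' i k hik, key a b i j k hik.symm hjk.symm] at h3
    exact ⟨h2, h3.symm⟩
  · exfalso
    have h2 := congrFun h1 m
    rw [key a b i j m hm1 hm2, Pi.add_apply, key a' b' i k m hm1 hm3, zero_add, Pi.one_apply] at h2
    exact zero_ne_one h2

end tt

/-- the group generated by the planes -/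
def VP (Pl : Fin n → Fin n → G → Subgroup G → Prop) : Subgroup G :=
  closure {w | ∃ i j t W, Pl i j t W ∧ w ∈ W}

/-- **The hypotheses** -/
structure Sys (V Q N : Subgroup G) (ε : (Fin n → ZMod 2) → G) (Pl : Fin n → Fin n → G → Subgroup G → Prop) :
    Prop where
  odd : Odd n
  five : 5 ≤ n
  ev : EvenSet n V N ε
  Qc : ∀ q ∈ Q, ∀ v ∈ V, q * v = v * q
  NQ : ∀ g ∈ N, ∀ q ∈ Q, g * q * g⁻¹ ∈ Q
  ex : ∀ i j, i ≠ j → ∃ t W, Pl i j t W
  sym : ∀ i j t W, Pl i j t W → Pl j i t W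
  ne : ∀ i j t W, Pl i j t W → i ≠ j
  tN : ∀ i j t W, Pl i j t W → t ∈ N
  act : ∀ i j t W, Pl i j t W → Acts ε t (Equiv.swap i j)
  VW : ∀ i j t W, Pl i j t W → V ≤ W
  nV : ∀ i j t W, Pl i j t W → ∃ w ∈ W, w ∉ V
  idx : ∀ i j t W, Pl i j t W → ∀ v ∈ W, ∀ w ∈ W, v ∉ V → w ∉ V → v * w ∈ V
  cj : ∀ i j t W, Pl i j t W → ∀ g ∈ N, ∀ σ, Acts ε g σ →
    Pl (σ i) (σ j) (g * t * g⁻¹) (W.map (MulAut.conj g).toMonoidHom)
  comm : ∀ i j t W, Pl i j t W → ∀ k l s W', Pl k l s W' → ∀ v ∈ W, ∀ w ∈ W', v * w = w * v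
  sq : ∀ i j t W, Pl i j t W → ∀ v ∈ W, v * v = 1
  Zc : ∀ i j t W, Pl i j t W → ∀ q ∈ Q, ∀ u ∈ W, ∃ a b, q * u * q⁻¹ * u⁻¹ = tt ε i j a b
  lemQ : ∀ u ∈ VP Pl, ∀ i, (∀ q ∈ Q, q * u * q⁻¹ * u⁻¹ = 1 ∨ q * u * q⁻¹ * u⁻¹ = zz ε i) → u ∈ V
  fix : ∀ i j k t W s W', Pl i j t W → Pl i k s W' → j ≠ k → ∀ u ∈ W', t * u * t⁻¹ * u⁻¹ ∈ W

namespace Sys

variable {V Q N : Subgroup G} {ε : (Fin n → ZMod 2) → G} {Pl : Fin n → Fin n → G → Subgroup G → Prop}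
  (h : Sys V Q N ε Pl)
include h

omit h in
theorem mem_VP {i j : Fin n} {t : G} {W : Subgroup G} (hp : Pl i j t W) {w : G} (hw : w ∈ W) : w ∈ VP Pl :=
  subset_closure ⟨i, j, t, W, hp, hw⟩

theorem VPc : ∀ x ∈ VP Pl, ∀ y ∈ VP Pl, x * y = y * x := by
  have h1 : ∀ x ∈ {w | ∃ i j t W, Pl i j t W ∧ w ∈ W}, ∀ y ∈ {w | ∃ i j t W, Pl i j t W ∧ w ∈ W},
      x * y = y * x := by
    rintro x ⟨i, j, t, W, hp, hx⟩ y ⟨k, l, s, W', hp', hy⟩
    exact h.comm i j t W hp k l s W' hp' x hx y hy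
  intro x hx y hy
  have h2 := (Subgroup.isMulCommutative_closure h1).1.1 (⟨x, hx⟩ : Subgroup.closure _) ⟨y, hy⟩
  exact congrArg Subtype.val h2

theorem V_le : V ≤ VP Pl := by
  obtain ⟨k, hk, -⟩ := exists_ne h.five ⟨0, by have := h.five; omega⟩ ⟨0, by have := h.five; omega⟩
    ⟨0, by have := h.five; omega⟩ ⟨0, by have := h.five; omega⟩
  obtain ⟨t, W, hp⟩ := h.ex _ _ hk
  exact fun v hv => mem_VP hp (h.VW _ _ _ _ hp hv)

theorem Vm {v : G} (hv : v ∈ V) {g : G} (hg : g ∈ N) : g * v * g⁻¹ ∈ V :=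
  (mem_normalizer_iff.1 (h.ev.le_normalizer hg) v).1 hv

/-- commutators with `Q` are multiplicative on `V⁺` -/
theorem cmul {q : G} {x y : G} (hx : x ∈ VP Pl) (hy : y ∈ VP Pl) (hqy : q * y * q⁻¹ ∈ VP Pl) :
    q * (x * y) * q⁻¹ * (x * y)⁻¹ = (q * x * q⁻¹ * x⁻¹) * (q * y * q⁻¹ * y⁻¹) := by
  have h1 : q * y * q⁻¹ * y⁻¹ ∈ VP Pl := (VP Pl).mul_mem hqy ((VP Pl).inv_mem hy)
  have h2 := h.VPc _ h1 _ ((VP Pl).inv_mem hx)
  calc q * (x * y) * q⁻¹ * (x * y)⁻¹ = q * x * q⁻¹ * ((q * y * q⁻¹ * y⁻¹) * x⁻¹) := by group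
    _ = q * x * q⁻¹ * (x⁻¹ * (q * y * q⁻¹ * y⁻¹)) := by rw [h2]
    _ = _ := by group

theorem Qm {i j : Fin n} {t : G} {W : Subgroup G} (hp : Pl i j t W) {q u : G} (hq : q ∈ Q) (hu : u ∈ W) :
    q * u * q⁻¹ ∈ W := by
  obtain ⟨a, b, hab⟩ := h.Zc _ _ _ _ hp q hq u hu
  have h1 : q * u * q⁻¹ = tt ε i j a b * u := by
    rw [← hab]
    group
  rw [h1]
  exact W.mul_mem (h.VW _ _ _ _ hp (tt_mem h.ev _ _ _ _)) hu

theorem sqV {v : G} (hv : v ∈ V) : v * v = 1 := h.ev.sq_mem hv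

theorem invV {v : G} (hv : v ∈ V) : v⁻¹ = v := inv_eq_of_mul_eq_one_left (h.sqV hv)

theorem inv {i j : Fin n} {t : G} {W : Subgroup G} (hp : Pl i j t W) {u : G} (hu : u ∈ W) : u⁻¹ = u :=
  inv_eq_of_mul_eq_one_left (h.sq _ _ _ _ hp u hu)

/-- a plane is `V ∪ aV` -/
theorem eq_of {i j k l : Fin n} {t s : G} {W W' : Subgroup G} (hp : Pl i j t W) (hp' : Pl k l s W') {a b : G}
    (ha : a ∈ W) (haV : a ∉ V) (hb : b ∈ W') (hbV : b ∉ V) (hab : a * b ∈ V) : W = W' := by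
  have key : ∀ {i j k l : Fin n} {t s : G} {W W' : Subgroup G}, Pl i j t W → Pl k l s W' → ∀ {a b : G},
      a ∈ W → a ∉ V → b ∈ W' → b ∉ V → a * b ∈ V → W ≤ W' := by
    intro i j k l t s W W' hp hp' a b ha haV hb hbV hab w hw
    by_cases hwV : w ∈ V
    · exact h.VW _ _ _ _ hp' hwV
    · have h1 := h.idx _ _ _ _ hp w hw a ha hwV haV
      have h2 : w = (w * a) * (a * b) * b⁻¹ * (a * a)⁻¹ := by
        have := h.sq _ _ _ _ hp a ha
        rw [this, inv_one, mul_one]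
        calc w = w * (a * a) := by rw [this, mul_one]
          _ = _ := by group
      rw [h2, h.sq _ _ _ _ hp a ha, inv_one, mul_one]
      exact W'.mul_mem (W'.mul_mem (h.VW _ _ _ _ hp' h1) (h.VW _ _ _ _ hp' hab)) (W'.inv_mem hb)
  refine le_antisymm (key hp hp' ha haV hb hbV hab) (key hp' hp hb hbV ha haV ?_)
  rw [h.comm _ _ _ _ hp' _ _ _ _ hp b hb a ha]
  exact hab

/-- (C) : `t ∈ T - Q` moves `W(T')` modulo `V`. -/
theorem move {i j k : Fin n} {t s : G} {W W' : Subgroup G} (hp : Pl i j t W) (hp' : Pl i k s W') (hjk : j ≠ k)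
    {u : G} (hu : u ∈ W') (huV : u ∉ V) : t * u * t⁻¹ * u⁻¹ ∉ V := by
  intro hc
  apply huV
  have hij := h.ne _ _ _ _ hp
  have hik := h.ne _ _ _ _ hp'
  have htN := h.tN _ _ _ _ hp
  refine h.lemQ u (mem_VP hp' hu) k fun q hq => ?_
  set c := t * u * t⁻¹ * u⁻¹ with hcdef
  have htu : t * u * t⁻¹ = c * u := by rw [hcdef]; group
  obtain ⟨a, b, hab⟩ := h.Zc _ _ _ _ hp' (t⁻¹ * q * t) (by
    have := h.NQ t⁻¹ (N.inv_mem htN) q hq
    rwa [inv_inv] at this) u hu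
  obtain ⟨a', b', hab'⟩ := h.Zc _ _ _ _ hp' q hq u hu
  have e1 : q * (t * u * t⁻¹) * q⁻¹ * (t * u * t⁻¹)⁻¹ = tt ε j k a b := by
    have h1 : q * (t * u * t⁻¹) * q⁻¹ * (t * u * t⁻¹)⁻¹ =
        t * ((t⁻¹ * q * t) * u * (t⁻¹ * q * t)⁻¹ * u⁻¹) * t⁻¹ := by group
    rw [h1, hab, tt_conj (h.act _ _ _ _ hp), Equiv.swap_apply_left, Equiv.swap_apply_of_ne_of_ne hik.symm hjk.symm]
  have e2 : q * (c * u) * q⁻¹ * (c * u)⁻¹ = tt ε i k a' b' := by
    have h1 : q * (c * u) * q⁻¹ * (c * u)⁻¹ = (q * c * q⁻¹ * c⁻¹) * (q * u * q⁻¹ * u⁻¹) :=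
      h.cmul (h.V_le hc) (mem_VP hp' hu) (mem_VP hp' (h.Qm hp' hq hu))
    have h2 : q * c * q⁻¹ * c⁻¹ = 1 := by
      rw [h.Qc q hq c hc]
      group
    rw [h1, h2, one_mul, hab']
  rw [htu] at e1
  have e3 : tt ε k i b' a' = tt ε k j b a := by
    rw [tt_symm k i, tt_symm k j, ← e2, ← e1]
  have h0 := (tt_meet h.ev h.five hik.symm hjk.symm hij e3).1
  rw [hab', h0]
  have hb : b' = 0 ∨ b' = 1 := by
    clear * -
    revert b'
    decide
  rcases hb with rfl | rfl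
  · left
    exact tt_zero h.ev _ _
  · right
    exact tt_zero_one _ _

theorem cjm {i j : Fin n} {t : G} {W : Subgroup G} (hp : Pl i j t W) {g : G} (hg : g ∈ N) {σ : Equiv.Perm (Fin n)}
    (hσ : Acts ε g σ) : Pl (σ i) (σ j) (g * t * g⁻¹) (W.map (MulAut.conj g).toMonoidHom) :=
  h.cj i j t W hp g hg σ hσ

omit h in
theorem mem_map {W : Subgroup G} {g u : G} (hu : u ∈ W) : g * u * g⁻¹ ∈ W.map (MulAut.conj g).toMonoidHom :=
  ⟨u, hu, rfl⟩

theorem uniq' {i j : Fin n} {x x' : G} {Wx Wx' : Subgroup G} (hp : Pl i j x Wx) (hp' : Pl i j x' Wx') :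
    Wx.map (MulAut.conj x').toMonoidHom = Wx' := by
  have hij := h.ne _ _ _ _ hp
  obtain ⟨k, hki, hkj, -, -⟩ := exists_ne h.five i j j j
  obtain ⟨y, Wy, hy⟩ := h.ex i k hki.symm
  obtain ⟨u, hu, huV⟩ := h.nV _ _ _ _ hy
  have hxN := h.tN _ _ _ _ hp
  have hx'N := h.tN _ _ _ _ hp'
  -- `a ∈ W(x)`, `b ∈ W(x')`
  have ha := h.fix _ _ _ _ _ _ _ hp hy hkj.symm u hu
  have haV := h.move hp hy hkj.symm hu huV
  have hb := h.fix _ _ _ _ _ _ _ hp' hy hkj.symm u hu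
  have hbV := h.move hp' hy hkj.symm hu huV
  set a := x * u * x⁻¹ * u⁻¹ with hadef
  set b := x' * u * x'⁻¹ * u⁻¹ with hbdef
  have hq1 := h.cjm hp hx'N (h.act _ _ _ _ hp')
  rw [Equiv.swap_apply_left, Equiv.swap_apply_right] at hq1
  have hq1' := h.sym _ _ _ _ hq1
  have ha' : x' * a * x'⁻¹ ∈ Wx.map (MulAut.conj x').toMonoidHom := mem_map ha
  have ha'V : x' * a * x'⁻¹ ∉ V := fun hc => haV (by
    have := h.Vm hc (N.inv_mem hx'N)
    have e : x'⁻¹ * (x' * a * x'⁻¹) * x'⁻¹⁻¹ = a := by group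
    rwa [e] at this)
  refine h.eq_of hq1' hp' ha' ha'V hb hbV ?_
  -- `c ∈ V`
  have he : Acts ε (x' * x) 1 := by
    have := (h.act _ _ _ _ hp').mul (h.act _ _ _ _ hp)
    rwa [Equiv.swap_mul_self] at this
  have heN : x' * x ∈ N := N.mul_mem hx'N hxN
  have hy' := h.cjm hy heN he
  have hcu : (x' * a * x'⁻¹) * b = (x' * x) * u * (x' * x)⁻¹ * u⁻¹ := by
    rw [hadef, hbdef]
    group
  have hcVP : (x' * a * x'⁻¹) * b ∈ VP Pl := (VP Pl).mul_mem (mem_VP hq1' ha') (mem_VP hp' hb)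
  refine h.lemQ _ hcVP i fun q hq => ?_
  -- first computation
  obtain ⟨α, β, h1⟩ := h.Zc _ _ _ _ hq1' q hq _ ha'
  obtain ⟨α', β', h2⟩ := h.Zc _ _ _ _ hp' q hq _ hb
  have e1 : q * ((x' * a * x'⁻¹) * b) * q⁻¹ * ((x' * a * x'⁻¹) * b)⁻¹ = tt ε i j (α + α') (β + β') := by
    rw [h.cmul (mem_VP hq1' ha') (mem_VP hp' hb) (mem_VP hp' (h.Qm hp' hq hb)), h1, h2, tt_add h.ev]
  -- second computation
  have hu' : (x' * x) * u * (x' * x)⁻¹ ∈ Wy.map (MulAut.conj (x' * x)).toMonoidHom := mem_map hu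
  obtain ⟨γ, δ, h3⟩ := h.Zc _ _ _ _ hy' q hq _ hu'
  obtain ⟨γ', δ', h4⟩ := h.Zc _ _ _ _ hy q hq u⁻¹ (Wy.inv_mem hu)
  have e2 : q * ((x' * a * x'⁻¹) * b) * q⁻¹ * ((x' * a * x'⁻¹) * b)⁻¹ = tt ε i k (γ + γ') (δ + δ') := by
    rw [hcu, h.cmul (mem_VP hy' hu') (mem_VP hy (Wy.inv_mem hu)) (mem_VP hy (h.Qm hy hq (Wy.inv_mem hu))), h3, h4]
    exact tt_add h.ev _ _ _ _ _ _
  have e3 := tt_meet h.ev h.five hij hki.symm hkj.symm (e1.symm.trans e2)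
  rw [e1, e3.1]
  have hb : α + α' = 0 ∨ α + α' = 1 := by
    generalize α + α' = w
    revert w
    decide
  rcases hb with h5 | h5 <;> rw [h5]
  · left
    exact tt_zero h.ev _ _
  · right
    exact tt_one_zero _ _

/-- **`W(T')` depends on the pair only.** -/
theorem uniq {i j : Fin n} {t s : G} {W₁ W₂ : Subgroup G} (h₁ : Pl i j t W₁) (h₂ : Pl i j s W₂) : W₁ = W₂ := by
  have hs := h.tN _ _ _ _ h₂
  have ha : Acts ε s⁻¹ (Equiv.swap i j) := by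
    have := (h.act _ _ _ _ h₂).inv
    rwa [Equiv.swap_inv] at this
  have h3 := h.cjm h₁ (N.inv_mem hs) ha
  rw [Equiv.swap_apply_left, Equiv.swap_apply_right] at h3
  have h4 := h.uniq' (h.sym _ _ _ _ h3) h₂
  rw [← h4, Subgroup.map_map]
  have h5 : (MulAut.conj s).toMonoidHom.comp (MulAut.conj s⁻¹).toMonoidHom = MonoidHom.id G := by
    ext g
    simp only [MulEquiv.toMonoidHom_eq_coe, MonoidHom.coe_comp, MonoidHom.coe_coe, Function.comp_apply,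
      MulAut.conj_apply, inv_inv, MonoidHom.id_apply]
    group
  rw [h5, Subgroup.map_id]

/-- (C) : `W(kl) ≤ W(ik) W(il)` -/
theorem le_sup {i k l : Fin n} {t s r : G} {W₁ W₂ W₃ : Subgroup G} (h₁ : Pl i k t W₁) (h₂ : Pl i l s W₂)
    (h₃ : Pl k l r W₃) : W₃ ≤ W₁ ⊔ W₂ := by
  have hkl := h.ne _ _ _ _ h₃
  have hik := h.ne _ _ _ _ h₁
  have hil := h.ne _ _ _ _ h₂
  obtain ⟨u, hu, huV⟩ := h.nV _ _ _ _ h₂
  have h4 := h.fix _ _ _ _ _ _ _ h₁ h₂ hkl u hu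
  have htN := h.tN _ _ _ _ h₁
  have h5 := h.cjm h₂ htN (h.act _ _ _ _ h₁)
  rw [Equiv.swap_apply_left, Equiv.swap_apply_of_ne_of_ne hil.symm hkl.symm] at h5
  have h6 := h.uniq h5 h₃
  have h7 : t * u * t⁻¹ ∈ W₃ := by
    rw [← h6]
    exact mem_map hu
  have h8 : t * u * t⁻¹ ∉ V := fun hc => huV (by
    have := h.Vm hc (N.inv_mem htN)
    have e : t⁻¹ * (t * u * t⁻¹) * t⁻¹⁻¹ = u := by group
    rwa [e] at this)
  have h9 : t * u * t⁻¹ ∈ W₁ ⊔ W₂ := by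
    have e : t * u * t⁻¹ = (t * u * t⁻¹ * u⁻¹) * u := by group
    rw [e]
    exact Subgroup.mul_mem_sup h4 hu
  have h10 : V ≤ W₁ ⊔ W₂ := (h.VW _ _ _ _ h₁).trans le_sup_left
  intro w hw
  by_cases hwV : w ∈ V
  · exact h10 hwV
  · have h11 := h.idx _ _ _ _ h₃ w hw _ h7 hwV h8
    have e : w = (w * (t * u * t⁻¹)) * (t * u * t⁻¹)⁻¹ := by group
    rw [e]
    exact (W₁ ⊔ W₂).mul_mem (h10 h11) ((W₁ ⊔ W₂).inv_mem h9)

end Sys

/-- the group generated by a family of planes -/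
def VF (W : Fin n → Fin n → Subgroup G) : Subgroup G :=
  closure {w | ∃ i j, i ≠ j ∧ w ∈ W i j}

/-- **The family of planes.** -/
structure Fam (V Q N : Subgroup G) (ε : (Fin n → ZMod 2) → G) (W : Fin n → Fin n → Subgroup G) : Prop where
  odd : Odd n
  five : 5 ≤ n
  ev : EvenSet n V N ε
  Qc : ∀ q ∈ Q, ∀ v ∈ V, q * v = v * q
  NQ : ∀ g ∈ N, ∀ q ∈ Q, g * q * g⁻¹ ∈ Q
  sym : ∀ i j, i ≠ j → W i j = W j i
  VW : ∀ i j, i ≠ j → V ≤ W i j
  nV : ∀ i j, i ≠ j → ∃ w ∈ W i j, w ∉ V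
  idx : ∀ i j, i ≠ j → ∀ v ∈ W i j, ∀ w ∈ W i j, v ∉ V → w ∉ V → v * w ∈ V
  cj : ∀ i j, i ≠ j → ∀ g ∈ N, ∀ σ, Acts ε g σ → ∀ w ∈ W i j, g * w * g⁻¹ ∈ W (σ i) (σ j)
  comm : ∀ i j, i ≠ j → ∀ k l, k ≠ l → ∀ v ∈ W i j, ∀ w ∈ W k l, v * w = w * v
  sq : ∀ i j, i ≠ j → ∀ v ∈ W i j, v * v = 1
  Zc : ∀ i j, i ≠ j → ∀ q ∈ Q, ∀ u ∈ W i j, ∃ a b, q * u * q⁻¹ * u⁻¹ = tt ε i j a b
  /-- (C) -/
  cc : ∀ i k l, i ≠ k → i ≠ l → k ≠ l → W k l ≤ W i k ⊔ W i l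

/-- **There is a family.** -/
theorem Sys.exists_fam {V Q N : Subgroup G} {ε : (Fin n → ZMod 2) → G} {Pl : Fin n → Fin n → G → Subgroup G → Prop}
    (h : Sys V Q N ε Pl) : ∃ W : Fin n → Fin n → Subgroup G, Fam V Q N ε W ∧
      (∀ i j t W', Pl i j t W' → W' = W i j) ∧ VF W = VP Pl := by
  classical
  choose! t W ht using h.ex
  have hW : ∀ i j t W', Pl i j t W' → W' = W i j := fun i j t W' hp => h.uniq hp (ht i j (h.ne _ _ _ _ hp))
  refine ⟨W, ⟨h.odd, h.five, h.ev, h.Qc, h.NQ, ?_, ?_, ?_, ?_, ?_, ?_, ?_, ?_, ?_⟩, hW, ?_⟩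
  · intro i j hij
    exact hW _ _ _ _ (h.sym _ _ _ _ (ht i j hij))
  · intro i j hij
    exact h.VW _ _ _ _ (ht i j hij)
  · intro i j hij
    exact h.nV _ _ _ _ (ht i j hij)
  · intro i j hij
    exact h.idx _ _ _ _ (ht i j hij)
  · intro i j hij g hg σ hσ w hw
    rw [← hW _ _ _ _ (h.cjm (ht i j hij) hg hσ)]
    exact Sys.mem_map hw
  · intro i j hij k l hkl
    exact h.comm _ _ _ _ (ht i j hij) _ _ _ _ (ht k l hkl)
  · intro i j hij
    exact h.sq _ _ _ _ (ht i j hij)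
  · intro i j hij
    exact h.Zc _ _ _ _ (ht i j hij)
  · intro i k l hik hil hkl
    exact h.le_sup (ht i k hik) (ht i l hil) (ht k l hkl)
  · apply le_antisymm
    · unfold VF VP
      refine closure_mono ?_
      rintro w ⟨i, j, hij, hw⟩
      exact ⟨i, j, t i j, W i j, ht i j hij, hw⟩
    · unfold VF VP
      refine closure_mono ?_
      rintro w ⟨i, j, s, W', hp, hw⟩
      exact ⟨i, j, h.ne _ _ _ _ hp, by rwa [← hW _ _ _ _ hp]⟩

namespace Fam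

variable {V Q N : Subgroup G} {ε : (Fin n → ZMod 2) → G} {W : Fin n → Fin n → Subgroup G} (h : Fam V Q N ε W)
include h

omit h in
theorem mem_VF {i j : Fin n} (hij : i ≠ j) {w : G} (hw : w ∈ W i j) : w ∈ VF W :=
  subset_closure ⟨i, j, hij, hw⟩

omit h in
theorem W_le {i j : Fin n} (hij : i ≠ j) : W i j ≤ VF W := fun _ hw => mem_VF hij hw

theorem VFc : ∀ x ∈ VF W, ∀ y ∈ VF W, x * y = y * x := by
  have h1 : ∀ x ∈ {w | ∃ i j, i ≠ j ∧ w ∈ W i j}, ∀ y ∈ {w | ∃ i j, i ≠ j ∧ w ∈ W i j},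
      x * y = y * x := by
    rintro x ⟨i, j, hij, hx⟩ y ⟨k, l, hkl, hy⟩
    exact h.comm i j hij k l hkl x hx y hy
  intro x hx y hy
  have h2 := (Subgroup.isMulCommutative_closure h1).1.1 (⟨x, hx⟩ : Subgroup.closure _) ⟨y, hy⟩
  exact congrArg Subtype.val h2

theorem VF_sq : ∀ x ∈ VF W, x * x = 1 := by
  intro x hx
  refine Subgroup.closure_induction (p := fun x _ => x * x = 1) ?_ ?_ ?_ ?_ hx
  · rintro x ⟨i, j, hij, hx⟩
    exact h.sq i j hij x hx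
  · exact one_mul 1
  · intro x y hx hy h1 h2
    have h3 := h.VFc y hy x hx
    calc x * y * (x * y) = x * (y * x) * y := by group
      _ = (x * x) * (y * y) := by rw [h3]; group
      _ = 1 := by rw [h1, h2, one_mul]
  · intro x hx h1
    rw [← mul_inv_rev, h1, inv_one]

/-- `V⁺` is normalised by `N` -/
theorem norm_N {g : G} (hg : g ∈ N) {w : G} (hw : w ∈ VF W) : g * w * g⁻¹ ∈ VF W := by
  obtain ⟨σ, hσ⟩ := h.ev.perm g hg
  have h1 : VF W ≤ (VF W).comap (MulAut.conj g).toMonoidHom := by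
    conv_lhs => unfold VF
    rw [closure_le]
    rintro w ⟨i, j, hij, hw⟩
    exact mem_VF (fun e => hij (σ.injective e)) (h.cj i j hij g hg σ hσ w hw)
  exact h1 hw

/-- `V⁺` is normalised by the parabolics over `ij` -/
theorem norm_R {i j : Fin n} (hij : i ≠ j) {r : G} (h1 : ∀ w ∈ W i j, r * w * r⁻¹ ∈ W i j)
    (h2 : ∀ k, k ≠ i → k ≠ j → ∀ w ∈ W i k, r * w * r⁻¹ ∈ W i j ⊔ W i k)
    (h3 : ∀ k, k ≠ i → k ≠ j → ∀ w ∈ W j k, r * w * r⁻¹ ∈ W i j ⊔ W j k) {w : G} (hw : w ∈ VF W) :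
    r * w * r⁻¹ ∈ VF W := by
  have key : ∀ k l, k ≠ l → W k l ≤ (VF W).comap (MulAut.conj r).toMonoidHom := by
    have a1 : ∀ k, k ≠ i → W i k ≤ (VF W).comap (MulAut.conj r).toMonoidHom := by
      intro k hki w hw
      by_cases hkj : k = j
      · subst hkj
        exact mem_VF hij (h1 w hw)
      · exact sup_le (W_le hij) (W_le (Ne.symm hki)) (h2 k hki hkj w hw)
    have a2 : ∀ k, k ≠ j → W j k ≤ (VF W).comap (MulAut.conj r).toMonoidHom := by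
      intro k hkj w hw
      by_cases hki : k = i
      · subst hki
        rw [h.sym _ _ hij.symm] at hw
        exact mem_VF hij (h1 w hw)
      · exact sup_le (W_le hij) (W_le (Ne.symm hkj)) (h3 k hki hkj w hw)
    intro k l hkl
    by_cases hki : k = i
    · subst hki
      exact a1 l hkl.symm
    · by_cases hli : l = i
      · subst hli
        rw [h.sym _ _ hkl]
        exact a1 k hkl
      · exact (h.cc i k l (Ne.symm hki) (Ne.symm hli) hkl).trans (sup_le (a1 k hki) (a1 l hli))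
  have h4 : VF W ≤ (VF W).comap (MulAut.conj r).toMonoidHom := by
    conv_lhs => unfold VF
    rw [closure_le]
    rintro w ⟨k, l, hkl, hw⟩
    exact key k l hkl hw
  exact h4 hw

end Fam

end Cfsg.Agent.Omega.NO3S.SN2.VPlus
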