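import Cfsg.Agent.Omega.NO3S.SN2.VPlus.ActR

/-!
# SN.Two / LightL, `V⁺ = even(2n) / 1` (helper933 #22887 (6), helper895 #23142 (f8)): `Sym(2n)`

* `MM N R` : the group generated by `N` and `R`; it permutes the letters (`perm_MM`) and normalises `V⁺` (`norm_MM`);
* **`sym`** : if one `q ∈ Q` is a transposition of letters (`f = {c}`), then `MM N R` induces `Sym(2n)`;
* **`rank`** : a group `G` with `m_3(G) ≤ 2` has no such configuration (LightL for `K = QK`).
-/

set_option autoImplicit false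
set_option linter.unusedSectionVars false

namespace Cfsg.Agent.Omega.NO3S.SN2.VPlus

open Subgroup Cfsg.Agent.Omega.S5.Def Cfsg.Agent.Omega.NSix.Base Cfsg.Agent.Omega.NSix.Basic

universe u

variable {G : Type u} [Group G] {n : ℕ} {V Q N : Subgroup G} {ε : (Fin n → ZMod 2) → G}
  {E : Fin n → Fin n → Subgroup G} {Φ : (Fin n × Bool → ZMod 2) → G}

section ActD

variable {g k : G} {σ τ : Equiv.Perm (Fin n × Bool)}

theorem ActD.one (Φ : (Fin n × Bool → ZMod 2) → G) : ActD Φ (1 : G) 1 := fun a b => by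
  rw [one_mul, inv_one, mul_one]
  rfl

theorem ActD.mul (hg : ActD Φ g σ) (hk : ActD Φ k τ) : ActD Φ (g * k) (σ * τ) := fun a b => by
  calc g * k * Φ (pr a b) * (g * k)⁻¹ = g * (k * Φ (pr a b) * k⁻¹) * g⁻¹ := by group
    _ = _ := by rw [hk, hg]; rfl

theorem ActD.inv (hg : ActD Φ g σ) : ActD Φ g⁻¹ σ⁻¹ := fun a b => by
  have h1 := hg (σ⁻¹ a) (σ⁻¹ b)
  have e1 : ∀ c, σ (σ⁻¹ c) = c := fun c => Equiv.apply_symm_apply σ c
  rw [e1, e1] at h1
  rw [← h1]
  group

/-- the permutations induced by `M` -/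
def Im (Φ : (Fin n × Bool → ZMod 2) → G) (M : Subgroup G) : Subgroup (Equiv.Perm (Fin n × Bool)) where
  carrier := {σ | ∃ g ∈ M, ActD Φ g σ}
  mul_mem' := by
    rintro σ τ ⟨g, hg, h1⟩ ⟨k, hk, h2⟩
    exact ⟨g * k, mul_mem hg hk, h1.mul h2⟩
  one_mem' := ⟨1, one_mem _, ActD.one Φ⟩
  inv_mem' := by
    rintro σ ⟨g, hg, h1⟩
    exact ⟨g⁻¹, inv_mem hg, h1.inv⟩

theorem mem_Im {M : Subgroup G} {σ : Equiv.Perm (Fin n × Bool)} : σ ∈ Im Φ M ↔ ∃ g ∈ M, ActD Φ g σ := Iff.rfl

end ActD

variable (h : Dt V Q N ε E) (l : Lt V Q ε E Φ)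
include h l

/-- the permutation is unique -/
theorem ActD.uniq {g : G} {σ τ : Equiv.Perm (Fin n × Bool)} (h1 : ActD Φ g σ) (h2 : ActD Φ g τ) : σ = τ := by
  classical
  ext1 a
  obtain ⟨b, hb⟩ := exists_out h.five {a} (by simp)
  obtain ⟨c, hc⟩ := exists_out h.five {a, b} (Finset.card_le_two.trans (by norm_num))
  simp only [Finset.mem_insert, Finset.mem_singleton, not_or] at hb hc
  have k1 := l.inj h (fun e => hb (σ.injective e).symm) ((h1 a b).symm.trans (h2 a b))
  have k2 := l.inj h (fun e => hc.1 (σ.injective e).symm) ((h1 a c).symm.trans (h2 a c))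
  rcases k1 with k1 | k1
  · exact k1.1
  · rcases k2 with k2 | k2
    · exact k2.1
    · exfalso
      exact hc.2 (τ.injective (k2.1.symm.trans k1.1))

/-- the block of `i` is mapped to the block of `σ i` -/
theorem ActD.blk {g : G} {σ : Equiv.Perm (Fin n × Bool)} (h1 : ActD Φ g σ) {i j : Fin n}
    (hg : g * zz ε i * g⁻¹ = zz ε j) (a : Bool) : (σ (i, a)).1 = j := by
  have h2 := h1 (i, false) (i, true)
  rw [l.dd_blk i (by simp), hg, ← l.dd_blk j (a := false) (b := true) (by simp)] at h2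
  have h3 := l.inj h (by simp) h2
  cases a
  · rcases h3 with h3 | h3
    · rw [← h3.1]
    · rw [← h3.2]
  · rcases h3 with h3 | h3
    · rw [← h3.2]
    · rw [← h3.1]

/-- an element `q` with `f = {c}` acts as the transposition of the two letters of the block `c` -/
theorem act_single {q : G} {c : Fin n}
    (hq : ∀ x, ∑ a, x a = 0 → q * Φ x * q⁻¹ = Φ x * ε (fun i => (Pi.single c 1 : Fin n → ZMod 2) i *
      (x (i, false) + x (i, true)))) : ActD Φ q (Equiv.swap (c, false) (c, true)) := by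
  classical
  intro a b
  rw [hq _ (sum_pr _ _), ← l.blk, ← l.add]
  congr 1
  funext d
  obtain ⟨k, s⟩ := d
  rw [Pi.add_apply]
  simp only [pr_apply]
  obtain ⟨i, α⟩ := a
  obtain ⟨j, β⟩ := b
  by_cases hic : i = c <;> by_cases hjc : j = c <;> by_cases hkc : k = c
  all_goals
    first
    | subst hic
    | skip
  all_goals
    first
    | subst hjc
    | skip
  all_goals
    first
    | subst hkc
    | skip
  all_goals
    cases α <;> cases β <;> cases s <;>
      simp_all [Equiv.swap_apply_def, two_add, Prod.ext_iff, eq_comm]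

/-- the group generated by `N` and `R` -/
def MM (N R : Subgroup G) : Subgroup G := N ⊔ R

omit h l in
theorem N_le (N R : Subgroup G) : N ≤ MM N R := le_sup_left

omit h l in
theorem R_le (N R : Subgroup G) : R ≤ MM N R := le_sup_right

theorem perm_MM (hh : Hvy V ε E) {i j : Fin n} {R : Subgroup G} (hR : Rp V N ε E i j R) {g : G}
    (hg : g ∈ MM N R) : ∃ σ, ActD Φ g σ := by
  have h1 : MM N R = closure ((N : Set G) ∪ R) := by
    rw [Subgroup.closure_union, Subgroup.closure_eq, Subgroup.closure_eq]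
    rfl
  rw [h1] at hg
  refine Subgroup.closure_induction (p := fun g _ => ∃ σ, ActD Φ g σ) ?_ ?_ ?_ ?_ hg
  · rintro g (hg | hg)
    · exact perm_N h l hg
    · exact perm_R h hh l hR hg
  · exact ⟨1, ActD.one Φ⟩
  · rintro g k _ _ ⟨σ, hσ⟩ ⟨τ, hτ⟩
    exact ⟨σ * τ, hσ.mul hτ⟩
  · rintro g _ ⟨σ, hσ⟩
    exact ⟨σ⁻¹, hσ.inv⟩

/-- an element which permutes the letters normalises `V⁺` -/
theorem ActD.norm {g : G} {σ : Equiv.Perm (Fin n × Bool)} (hg : ActD Φ g σ) {v : G} (hv : v ∈ VE E) :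
    g * v * g⁻¹ ∈ VE E := by
  have h1 : VE E ≤ (VE E).comap (MulAut.conj g).toMonoidHom := by
    conv_lhs => unfold VE
    rw [closure_le]
    rintro w ⟨i, j, hij, hw⟩
    change g * w * g⁻¹ ∈ VE E
    by_cases hwV : w ∈ V
    · have h2 := (h.EV i j hij w hw hwV).pair h.ev
      obtain ⟨a, b, rfl⟩ := h2
      have hz : ∀ m, g * zz ε m * g⁻¹ ∈ VE E := by
        intro m
        rw [← l.dd_blk m (a := false) (b := true) (by simp), hg]
        exact l.mem _
      rcases z01 a with rfl | rfl <;> rcases z01 b with rfl | rfl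
      · rw [tt_zero h.ev, mul_one, mul_inv_cancel]
        exact one_mem _
      · rw [tt_zero_one]
        exact hz j
      · rw [tt_one_zero]
        exact hz i
      · rw [tt_one_one h.ev]
        have e : g * rr ε i j * g⁻¹ = (g * zz ε i * g⁻¹) * (g * zz ε j * g⁻¹) := by
          unfold rr
          group
        rw [e]
        exact mul_mem (hz i) (hz j)
    · obtain ⟨a, b, rfl⟩ := l.pr_surj i j hij w hw hwV
      rw [hg]
      exact l.mem _
  exact h1 hv

omit h l in
/-- swaps -/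
theorem swap_trans {H : Subgroup (Equiv.Perm (Fin n × Bool))} {a b c : Fin n × Bool}
    (hab : Equiv.swap a b ∈ H) (hbc : Equiv.swap b c ∈ H) : Equiv.swap a c ∈ H := by
  by_cases h1 : a = b
  · rw [h1]
    exact hbc
  by_cases h2 : b = c
  · rw [← h2]
    exact hab
  by_cases h3 : a = c
  · rw [h3, Equiv.swap_self]
    exact one_mem _
  have h4 : Equiv.swap a c = Equiv.swap a b * Equiv.swap b c * Equiv.swap a b := by
    have := Equiv.swap_apply_apply (Equiv.swap a b) b c
    rw [Equiv.swap_apply_right, Equiv.swap_apply_of_ne_of_ne (Ne.symm h3) (Ne.symm h2), Equiv.swap_inv] at this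
    exact this
  rw [h4]
  exact mul_mem (mul_mem hab hbc) hab

omit h l in
theorem swap_conj {H : Subgroup (Equiv.Perm (Fin n × Bool))} {σ : Equiv.Perm (Fin n × Bool)} (hσ : σ ∈ H)
    {a b : Fin n × Bool} (hab : Equiv.swap a b ∈ H) : Equiv.swap (σ a) (σ b) ∈ H := by
  rw [Equiv.swap_apply_apply]
  exact mul_mem (mul_mem hσ hab) (inv_mem hσ)

/-- **`⟨N, R⟩` induces `Sym(2n)` on `V⁺`.** -/
theorem sym (hh : Hvy V ε E) {i j : Fin n} {R : Subgroup G} (hR : Rp V N ε E i j R) (hQN : Q ≤ N) {q : G}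
    (hq : q ∈ Q) {c : Fin n}
    (hqc : ∀ x, ∑ a, x a = 0 → q * Φ x * q⁻¹ = Φ x * ε (fun i => (Pi.single c 1 : Fin n → ZMod 2) i *
      (x (i, false) + x (i, true)))) (σ : Equiv.Perm (Fin n × Bool)) : ∃ g ∈ MM N R, ActD Φ g σ := by
  classical
  have hij := hR.ne
  suffices hs : Im Φ (MM N R) = ⊤ by
    have : σ ∈ Im Φ (MM N R) := by rw [hs]; trivial
    exact this
  have s0 : Equiv.swap (c, false) (c, true) ∈ Im Φ (MM N R) :=
    ⟨q, N_le N R (hQN hq), act_single h l hqc⟩
  -- all blocks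
  have s1 : ∀ k, Equiv.swap (k, false) (k, true) ∈ Im Φ (MM N R) := by
    intro k
    obtain ⟨g, hg, hσ⟩ := h.ev.full (Equiv.swap c k)
    obtain ⟨τ, hτ⟩ := perm_N h l hg
    have h1 := swap_conj (H := Im Φ (MM N R)) ⟨g, N_le N R hg, hτ⟩ s0
    have h2 : g * zz ε c * g⁻¹ = zz ε k := by
      rw [zz_conj hσ, Equiv.swap_apply_left]
    have b1 := hτ.blk h l h2 false
    have b2 := hτ.blk h l h2 true
    have hne : τ (c, false) ≠ τ (c, true) := fun e => by
      have := τ.injective e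
      simp at this
    revert h1 hne b1 b2
    generalize τ (c, false) = A
    generalize τ (c, true) = B
    obtain ⟨k1, s1⟩ := A
    obtain ⟨k2, s2⟩ := B
    rintro h1 b1 b2
    change k1 = k at b1
    change k2 = k at b2
    subst b1
    subst b2
    revert h1
    cases s1 <;> cases s2
    · exact fun _ h2 => absurd rfl h2
    · exact fun h1 _ => h1
    · intro h1 _
      rwa [Equiv.swap_comm]
    · exact fun _ h2 => absurd rfl h2
  have s1' : ∀ k s t, Equiv.swap (k, s) (k, t) ∈ Im Φ (MM N R) := by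
    intro k s t
    cases s <;> cases t
    · rw [Equiv.swap_self]
      exact one_mem _
    · exact s1 k
    · rw [Equiv.swap_comm]
      exact s1 k
    · rw [Equiv.swap_self]
      exact one_mem _
  -- one mixed transposition
  obtain ⟨a, b, s2⟩ : ∃ a b, Equiv.swap (i, a) (j, b) ∈ Im Φ (MM N R) := by
    obtain ⟨r, hr, hrV⟩ := hR.mv
    obtain ⟨ρ, hρ⟩ := perm_R h hh l hR hr
    have h1 := hR.RE r hr _ (h.zzE hij).1
    obtain ⟨a, b, hab⟩ := l.pr_surj i j hij _ h1 hrV
    refine ⟨a, b, ?_⟩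
    have h2 := hρ (i, false) (i, true)
    rw [l.dd_blk i (by simp), hab] at h2
    have h3 := swap_conj (H := Im Φ (MM N R)) ⟨r, R_le N R hr, hρ⟩ (s1 i)
    rcases l.inj h (fun e => hij (congrArg Prod.fst e)) h2 with h4 | h4
    · rw [h4.1, h4.2]
      exact h3
    · rw [h4.1, h4.2, Equiv.swap_comm]
      exact h3
  -- all transpositions
  have s3 : ∀ x y : Fin n × Bool, Equiv.swap x y ∈ Im Φ (MM N R) := by
    rintro ⟨k, s⟩ ⟨m, t⟩
    by_cases hkm : k = m
    · subst hkm
      exact s1' k s t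
    · obtain ⟨τ, hτ1, hτ2, -⟩ := exists_perm hij hkm
      obtain ⟨g, hg, hσ⟩ := h.ev.full τ
      obtain ⟨ρ, hρ⟩ := perm_N h l hg
      have h1 := swap_conj (H := Im Φ (MM N R)) ⟨g, N_le N R hg, hρ⟩ s2
      have b1 := hρ.blk h l (i := i) (j := k) (by rw [zz_conj hσ, hτ1]) a
      have b2 := hρ.blk h l (i := j) (j := m) (by rw [zz_conj hσ, hτ2]) b
      revert h1 b1 b2
      generalize ρ (i, a) = A
      generalize ρ (j, b) = B
      obtain ⟨k1, u1⟩ := A
      obtain ⟨k2, u2⟩ := B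
      intro h1 b1 b2
      change k1 = k at b1
      change k2 = m at b2
      subst b1
      subst b2
      exact swap_trans (swap_trans (s1' k1 s u1) h1) (s1' k2 u2 t)
  rw [eq_top_iff, ← Equiv.Perm.closure_isSwap, closure_le]
  rintro _ ⟨x, y, -, rfl⟩
  exact s3 x y

end Cfsg.Agent.Omega.NO3S.SN2.VPlus
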